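import Cfsg.Agent.H804.Ext.CoOf
import Cfsg.Agent.H53.HC.ExcIM
import Cfsg.Agent.CpAut.RgdUntw
import Cfsg.Agent.KFacts.RgdChevCoord
import Cfsg.Agent.H70.OutE
import Cfsg.Agent.S1054

/-!
# S4832: the rows `E₆(q)`, `E₇(q)` (helper804)

`hasExt_E6`, `hasExt_E7` : a character of degree divisible by `p` which extends to its stabiliser.
-/

set_option autoImplicit false
set_option linter.unusedSectionVars false

open scoped ComplexConjugate
open Cfsg

namespace Cfsg.Agent.H804.Ext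

open CoxeterSystem Cfsg.Agent.ChevalleyStructure.CoxeterGeom Cfsg.Agent.Tits.Roots Cfsg.Agent.Tits.Core
  Cfsg.Agent.Nodes.Reps Cfsg.Agent.Nodes.BNOf Cfsg.Agent.Nodes.OppDec Cfsg.Agent.Nodes.RGDChev
open Cfsg.Agent.KFacts.RgdAut Cfsg.Agent.KFacts.RgdDiag Cfsg.Agent.KFacts.RgdRigid
  Cfsg.Agent.KFacts.RgdField Cfsg.Agent.KFacts.RgdTau Cfsg.Agent.KFacts.RgdChevCoord
open Cfsg.Lie Cfsg.Agent.ChevalleyStructure Cfsg.Agent.ChevalleyStructure.Elts
  Cfsg.Agent.ChevalleyStructure.NPerm Cfsg.Agent.ChevalleyStructure.CoxeterGeomTypes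
open Cfsg.Agent.H576.Ext Cfsg.Agent.H53.HC
open Cfsg.Agent.ChevalleyStructure.SL2Hom (up lo)
open Cfsg.Agent.H35.ExcIdx (hpE6 hpE7)
open Matrix

section gen

variable {D : ChevalleyDatum} {l : ℕ} {M : CoxeterMatrix (Fin l)} (hp : IsType D l M) {K : Type} [Field K] [Fintype K]

include hp in
/-- the rank one groups -/
theorem exists_phi (j : Fin l) : ∃ φ : SpecialLinearGroup (Fin 2) K →* ↥(D.group K),
    (∀ a, φ (up a) = xc hp (sr j) a) ∧
      ∀ y, y ∈ Cfsg.Agent.KFacts.RgdChevCoord.XX D l K (-sr j) ↔ ∃ b, φ (lo b) = y := by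
  have hj := simple_lt hp.inList (lt_rank hp j)
  obtain ⟨φ, hφ, hxy⟩ := Cfsg.Agent.S1030.result (F := K) D hp.inList (D.simple j) hj
  have hsx : ∀ u : K, φ (up u) = xG hp.inList (D.simple j) u := fun u =>
    Units.ext (by rw [(hxy (up u) u).1 rfl, coe_xG])
  have hsy : ∀ u : K, φ (lo u) = xG hp.inList (D.neg (D.simple j)) u := fun u =>
    Units.ext (by rw [(hxy (lo u) u).2 rfl, coe_xG])
  have hmem : ∀ g, φ g ∈ D.group K := by
    intro g
    have h1 : φ g ∈ D.rootSubgroup K (D.simple j) ⊔ D.rootSubgroup K (D.neg (D.simple j)) := by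
      rw [← hφ]; exact ⟨g, rfl⟩
    have h2 : D.rootSubgroup K (D.simple j) ⊔ D.rootSubgroup K (D.neg (D.simple j)) ≤ D.group K := by
      refine sup_le (fun y hy => ?_) (fun y hy => ?_)
      · obtain ⟨t, rfl⟩ := (mem_rootSubgroup_iff hp.inList _ _).1 hy
        exact xG_mem_group hp.inList _ t
      · obtain ⟨t, rfl⟩ := (mem_rootSubgroup_iff hp.inList _ _).1 hy
        exact xG_mem_group hp.inList _ t
    exact h2 h1
  refine ⟨φ.codRestrict _ hmem, fun a => ?_, fun y => ?_⟩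
  · apply Subtype.ext
    change φ (up a) = _
    rw [hsx, ← vec_simple hp j, coe_xc hp hj]
  · rw [Subgroup.mem_subgroupOf, XV_neg_sr hp, mem_rootSubgroup_iff hp.inList]
    constructor
    · rintro ⟨t, ht⟩
      exact ⟨t, Subtype.ext ((hsy t).trans ht.symm)⟩
    · rintro ⟨b, rfl⟩
      exact ⟨b, hsy b⟩

/-- **Field-generic characters of a node.** -/
theorem exists_gen (r : ℕ) [Fact r.Prime] [CharP K r] (j : Fin l) :
    ∃ φ : SpecialLinearGroup (Fin 2) K →* ↥(D.group K), (∀ a, φ (up a) = xc hp (sr j) a) ∧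
      (∀ y, y ∈ Cfsg.Agent.KFacts.RgdChevCoord.XX D l K (-sr j) ↔ ∃ b, φ (lo b) = y) ∧
      ∃ θ : ↥(H53.HC.MJ M.toCoxeterSystem hp.isCartan (Cfsg.Agent.KFacts.RgdChevCoord.XX D l K) {j}) → ℂ,
        Cusp M.toCoxeterSystem hp.isCartan (Cfsg.Agent.KFacts.RgdChevCoord.XX D l K) {j} θ ∧
        Generic M.toCoxeterSystem hp.isCartan (Cfsg.Agent.KFacts.RgdChevCoord.XX D l K) φ {j} θ := by
  have hfin := ExcRows.finite_group (K := K) D
  have hW := finite_W hp (M.toCoxeterSystem)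
  have R := rgd (K := K) hp M.toCoxeterSystem r
  have C := coords (K := K) hp M.toCoxeterSystem r
  have hC := C.coord _ (isRoot_sr M.toCoxeterSystem hp.isCartan j)
  obtain ⟨φ, h1, h2⟩ := exists_phi hp (K := K) j
  have hco := co_of R (i := j) (φ := φ) (fun y => by
      rw [hC.mem y]
      exact ⟨fun ⟨a, e⟩ => ⟨a, by rw [h1]; exact e⟩, fun ⟨a, e⟩ => ⟨a, by rw [← h1]; exact e⟩⟩)
    (fun a b hab => by
      have hab' : φ (up a) = φ (up b) := hab
      rw [h1, h1] at hab'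
      exact hC.inj hab') h2
  obtain ⟨θ, h3, h4⟩ := exists_node (cs := M.toCoxeterSystem) (h := hp.isCartan) hco
  exact ⟨φ, h1, h2, θ, h3, h4⟩

theorem laced_E6 : ∀ i j : Fin 6, i ≠ j → ExcRows.m6 i j = 2 ∨ ExcRows.m6 i j = 3 := by decide +kernel
theorem laced_E7 : ∀ i j : Fin 7, i ≠ j → ExcRows.m7 i j = 2 ∨ ExcRows.m7 i j = 3 := by decide +kernel

theorem iso_E6 : ∀ c : Fin 6, c ≠ 3 → c ≠ 1 → ExcRows.m6 1 c = 2 := by decide +kernel
theorem iso_E7 : ∀ c : Fin 7, c ≠ 3 → c ≠ 1 → ExcRows.m7 1 c = 2 := by decide +kernel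

theorem uniq_E6 : ∀ a : Fin 6, a ≠ 3 → (∀ c, c ≠ 3 → c ≠ a → ExcRows.m6 a c = 2) → a = 1 := by decide +kernel
theorem uniq_E7 : ∀ a : Fin 7, a ≠ 3 → (∀ c, c ≠ 3 → c ≠ a → ExcRows.m7 a c = 2) → a = 1 := by decide +kernel

theorem sym_E6 {σ : Equiv.Perm (Fin 6)} (hσ : ∀ i j, CoxeterMatrix.E₆ (σ i) (σ j) = CoxeterMatrix.E₆ i j) :
    σ 3 = 3 ∧ σ 1 = 1 := by
  have h1 : ∀ i, ![2, 3, 4, 5, 4, 2] (σ i) = ![2, 3, 4, 5, 4, 2] i := by
    refine Cfsg.Agent.CpAut.RgdUntw.inv_step hσ (g := ![1, 1, 2, 3, 2, 1]) ?_ (by decide)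
    exact Cfsg.Agent.CpAut.RgdUntw.inv_step hσ (g := fun _ => 1) (fun _ => rfl) (by decide)
  have h2 : ∀ i : Fin 6, (![2, 3, 4, 5, 4, 2] i = 5 → i = 3) ∧ (![2, 3, 4, 5, 4, 2] i = 3 → i = 1) := by decide
  exact ⟨(h2 _).1 (h1 3), (h2 _).2 (h1 1)⟩

theorem sym_E7 {σ : Equiv.Perm (Fin 7)} (hσ : ∀ i j, CoxeterMatrix.E₇ (σ i) (σ j) = CoxeterMatrix.E₇ i j) :
    σ 3 = 3 ∧ σ 1 = 1 := by
  have h0 : ∀ i, ![1, 1, 2, 3, 2, 2, 1] (σ i) = ![1, 1, 2, 3, 2, 2, 1] i :=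
    Cfsg.Agent.CpAut.RgdUntw.inv_step hσ (g := fun _ => 1) (fun _ => rfl) (by decide)
  have h1 : ∀ i, ![2, 3, 4, 5, 5, 3, 2] (σ i) = ![2, 3, 4, 5, 5, 3, 2] i :=
    Cfsg.Agent.CpAut.RgdUntw.inv_step hσ (g := ![1, 1, 2, 3, 2, 2, 1]) h0 (by decide)
  have h2 : ∀ i : Fin 7, (![1, 1, 2, 3, 2, 2, 1] i = 3 → i = 3) ∧
      (![2, 3, 4, 5, 5, 3, 2] i = 3 → ![1, 1, 2, 3, 2, 2, 1] i = 1 → i = 1) := by decide
  exact ⟨(h2 _).1 (h0 3), (h2 _).2 (h1 1) (h0 1)⟩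

theorem sqf_mul {k : ℕ} (hk : k ∣ 3) : Squarefree (2 * k) := by
  rcases (Nat.dvd_prime Nat.prime_three).1 hk with rfl | rfl
  · exact Nat.prime_two.squarefree
  · exact (Nat.squarefree_mul (by norm_num)).2 ⟨Nat.prime_two.squarefree, Nat.prime_three.squarefree⟩

end gen

section rows

variable {K : Type} [Field K] [Fintype K] {r f : ℕ} (hr : r.Prime) (hf : f ≠ 0)
  (hK : Fintype.card K = r ^ f) [CharP K r]

include hr hf hK in
/-- **`E₆(q)`.** -/
theorem ext_E6 [IsSimpleGroup ↥(chevE6.group K)] (hc : ∃ a b : ↥(chevE6.group K), a * b ≠ b * a) {p : ℕ}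
    (hp : p.Prime) (hpr : p ≠ r) (hd : p ∣ Nat.card ↥(chevE6.group K)) : HasExt p ↥(chevE6.group K) := by
  have hfr : Fact r.Prime := ⟨hr⟩
  have hfin := ExcRows.finite_group (K := K) chevE6
  have D := Cfsg.Agent.H35.ExcIdx.data_E6_3 hr hf hK
  have hW := D.fin
  have hG1 : RGD.Sup (Cfsg.Agent.KFacts.RgdChevCoord.XX chevE6 6 K)
      {x | IsRoot CoxeterMatrix.E₆.toCoxeterSystem hpE6.isCartan x} = ⊤ := G1_eq_top hpE6 CoxeterMatrix.E₆.toCoxeterSystem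
  obtain ⟨φ, hup, hlo, θ, hθ, hgen⟩ := exists_gen hpE6 (K := K) r 1
  obtain ⟨Ψ, hΨ, ⟨N, hN, hdiv⟩, hrig⟩ := big_of_two_aut hr (Cfsg.Agent.H35.ExcIdx.two_le hr hf) D (N := {1})
    ExcRows.compl6 (fun i hi i' hi' => ExcRows.or6a i (by simpa using hi) i' (by simpa using hi'))
    (fun i hi i' hi' => ExcRows.or6b i (by simpa using hi) i' (by simpa using hi'))
    (by decide +kernel) (by decide +kernel) (by decide +kernel) (by decide +kernel) (by decide +kernel)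
    (by decide +kernel) ExcRows.un6 (ExcIM.in_A2 D (by decide +kernel) rfl) (ExcIM.in_pair D (by decide +kernel)) hθ
  have hdeg : p ∣ charDegree Ψ := by
    have h1 := Cfsg.Agent.Blocks.Basic.irr_one_eq_charDegree hΨ
    rw [hN] at h1
    have h2 : N = charDegree Ψ := by exact_mod_cast h1
    rw [← h2]
    exact hdiv p hp hd hpr
  have hZ := KFacts.RgdLieCharP.center_eq_bot hc
  have hcard := Cfsg.Agent.H70.OutE.card_out_E6 (p := r) hK
  have hcardF : Nat.card (K ≃+* K) = f :=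
    Cfsg.Agent.Lib.FieldAutCard.card_ringAut (Nat.one_le_iff_ne_zero.2 hf) hK
  have hconn := KFacts.RgdLieCharP.conn_of_simple D.rgd hG1 hZ
  have C := coords (K := K) hpE6 CoxeterMatrix.E₆.toCoxeterSystem r
  have H := coroots (K := K) hpE6 CoxeterMatrix.E₆.toCoxeterSystem r
  refine hasExt_of_coords D.rgd hG1 hZ C H hconn (J := {i | i ≠ 3}) (i₀ := 1) (by decide)
    (fun c hc' h1 => iso_E6 c hc' h1) (fun a ha h1 => uniq_E6 a ha h1) ?_ hup hlo hgen hΨ hrig hdeg ?_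
    (m := 2 * Nat.gcd 3 (r ^ f - 1)) (by rw [hcard, hcardF]) (sqf_mul (Nat.gcd_dvd_left _ _))
  · intro σ hσ
    obtain ⟨h1, h2⟩ := sym_E6 hσ
    refine ⟨cartan_of_laced hpE6.isCartan laced_E6 hσ, fun i => not_congr ?_, h2⟩
    constructor
    · intro h3
      exact σ.injective (h3.trans h1.symm)
    · rintro rfl
      exact h1
  · intro τ
    refine ⟨Cfsg.Agent.CpAut.RgdUntw.fld chevE6 τ, 1, Cfsg.Agent.CpAut.RgdConj.tau_of_std D.rgd hG1 C H hconn ?_⟩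
    intro v hv a
    obtain ⟨s, hs, rfl⟩ := (isRoot_iff hpE6 CoxeterMatrix.E₆.toCoxeterSystem v).1 hv
    exact Cfsg.Agent.CpAut.RgdUntw.fld_xc hpE6 τ hs a

include hr hf hK in
/-- **`E₇(q)`.** -/
theorem ext_E7 [IsSimpleGroup ↥(chevE7.group K)] (hc : ∃ a b : ↥(chevE7.group K), a * b ≠ b * a) {p : ℕ}
    (hp : p.Prime) (hpr : p ≠ r) (hd : p ∣ Nat.card ↥(chevE7.group K)) : HasExt p ↥(chevE7.group K) := by
  have hfr : Fact r.Prime := ⟨hr⟩
  have hfin := ExcRows.finite_group (K := K) chevE7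
  have D := Cfsg.Agent.H35.ExcIdx.data_E7_3 hr hf hK
  have hW := D.fin
  have hG1 : RGD.Sup (Cfsg.Agent.KFacts.RgdChevCoord.XX chevE7 7 K)
      {x | IsRoot CoxeterMatrix.E₇.toCoxeterSystem hpE7.isCartan x} = ⊤ := G1_eq_top hpE7 CoxeterMatrix.E₇.toCoxeterSystem
  obtain ⟨φ, hup, hlo, θ, hθ, hgen⟩ := exists_gen hpE7 (K := K) r 1
  obtain ⟨η, hη⟩ : In hpE7.isCartan (Cfsg.Agent.H35.ExcIdx.XX chevE7 7 K) {4, 5, 6} := by
    rw [← ExcRows.range_k7]; exact ExcRows.in_chain D (by norm_num) ExcRows.k7 ExcRows.hk7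
  obtain ⟨θ', hθ', hval⟩ := hθ.exists_prod D.rgd (K := {1}) (K' := {4, 5, 6})
    (orth_of hpE7.isCartan fun i hi i' hi' => ExcRows.or7b i (by simpa using hi) i' (by simpa using hi')) hη
  have hlies : Lies θ θ' := Lies.prod_left hη.irr (Lies.refl θ) hval
  obtain ⟨Ψ, hΨ, ⟨N, hN, hdiv⟩, hrig⟩ := big_of_one_aut hr (Cfsg.Agent.H35.ExcIdx.two_le hr hf) D
    (K' := {1} ∪ {4, 5, 6}) ExcRows.compl7
    (fun i hi i' hi' => ExcRows.or7a i (by simpa using hi) i' (by simpa using hi'))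
    (by decide +kernel) (by decide +kernel) (by decide +kernel) ExcRows.un7
    (ExcIM.in_A2 D (by decide +kernel) rfl) hθ' hlies
  have hdeg : p ∣ charDegree Ψ := by
    have h1 := Cfsg.Agent.Blocks.Basic.irr_one_eq_charDegree hΨ
    rw [hN] at h1
    have h2 : N = charDegree Ψ := by exact_mod_cast h1
    rw [← h2]
    exact hdiv p hp hd hpr
  have hZ := KFacts.RgdLieCharP.center_eq_bot hc
  have hcard := Cfsg.Agent.H70.OutE.card_out_E7 (p := r) hK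
  have hcardF : Nat.card (K ≃+* K) = f :=
    Cfsg.Agent.Lib.FieldAutCard.card_ringAut (Nat.one_le_iff_ne_zero.2 hf) hK
  have hconn := KFacts.RgdLieCharP.conn_of_simple D.rgd hG1 hZ
  have C := coords (K := K) hpE7 CoxeterMatrix.E₇.toCoxeterSystem r
  have H := coroots (K := K) hpE7 CoxeterMatrix.E₇.toCoxeterSystem r
  refine hasExt_of_coords D.rgd hG1 hZ C H hconn (J := {i | i ≠ 3}) (i₀ := 1) (by decide)
    (fun c hc' h1 => iso_E7 c hc' h1) (fun a ha h1 => uniq_E7 a ha h1) ?_ hup hlo hgen hΨ hrig hdeg ?_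
    (m := Nat.gcd 2 (r ^ f - 1)) (by rw [hcard, hcardF])
    (Nat.prime_two.squarefree.squarefree_of_dvd (Nat.gcd_dvd_left _ _))
  · intro σ hσ
    obtain ⟨h1, h2⟩ := sym_E7 hσ
    refine ⟨cartan_of_laced hpE7.isCartan laced_E7 hσ, fun i => not_congr ?_, h2⟩
    constructor
    · intro h3
      exact σ.injective (h3.trans h1.symm)
    · rintro rfl
      exact h1
  · intro τ
    refine ⟨Cfsg.Agent.CpAut.RgdUntw.fld chevE7 τ, 1, Cfsg.Agent.CpAut.RgdConj.tau_of_std D.rgd hG1 C H hconn ?_⟩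
    intro v hv a
    obtain ⟨s, hs, rfl⟩ := (isRoot_iff hpE7 CoxeterMatrix.E₇.toCoxeterSystem v).1 hv
    exact Cfsg.Agent.CpAut.RgdUntw.fld_xc hpE7 τ hs a

end rows

section main

universe u

theorem exists_ne_of {G : Type*} [Group G] (h : ¬ IsMulCommutative G) : ∃ a b : G, a * b ≠ b * a := by
  by_contra hcon
  push Not at hcon
  exact h ⟨⟨hcon⟩⟩

/-- **S4832 for `E₆(q)`.** -/
theorem hasExt_E6 {S : Type u} [Group S] (h : Lie.IsoChevE6 S) {p : ℕ} [Fact p.Prime] (hd : p ∣ Nat.card S) :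
    HasExt p S := by
  obtain ⟨F, _, _, ⟨e⟩⟩ := h
  refine HasExt.of_equiv e ?_
  obtain ⟨r, f, hr, hf, hF, hch⟩ := ExcIM.exists_prime_pow F
  have hfin := ExcRows.finite_group (K := F) chevE6
  obtain ⟨hs, hna⟩ := Cfsg.Agent.S1054.result (F := F) chevE6 (by simp)
  have hd' : p ∣ Nat.card ↥(chevE6.group F) := by rwa [← Nat.card_congr e.toEquiv]
  by_cases hpr : p = r
  · subst hpr
    refine hasExt_char ?_ hd'
    have h1 : IsExceptionalChevChar p ↥(chevE6.group F) :=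
      ⟨F, inferInstance, inferInstance, inferInstance, Or.inr (Or.inr (Or.inl ⟨MulEquiv.refl _⟩))⟩
    unfold IsLieTypeChar
    tauto
  · exact ext_E6 hr hf hF (exists_ne_of hna) Fact.out hpr hd'

/-- **S4832 for `E₇(q)`.** -/
theorem hasExt_E7 {S : Type u} [Group S] (h : Lie.IsoE7 S) {p : ℕ} [Fact p.Prime] (hd : p ∣ Nat.card S) :
    HasExt p S := by
  obtain ⟨F, _, _, ⟨e⟩⟩ := h
  refine HasExt.of_equiv e ?_
  obtain ⟨r, f, hr, hf, hF, hch⟩ := ExcIM.exists_prime_pow F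
  have hfin := ExcRows.finite_group (K := F) chevE7
  obtain ⟨hs, hna⟩ := Cfsg.Agent.S1054.result (F := F) chevE7 (by simp)
  have hd' : p ∣ Nat.card ↥(chevE7.group F) := by rwa [← Nat.card_congr e.toEquiv]
  by_cases hpr : p = r
  · subst hpr
    refine hasExt_char ?_ hd'
    have h1 : IsExceptionalChevChar p ↥(chevE7.group F) :=
      ⟨F, inferInstance, inferInstance, inferInstance, Or.inr (Or.inr (Or.inr (Or.inl ⟨MulEquiv.refl _⟩)))⟩
    unfold IsLieTypeChar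
    tauto
  · exact ext_E7 hr hf hF (exists_ne_of hna) Fact.out hpr hd'

end main

end Cfsg.Agent.H804.Ext
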