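import Cfsg.Agent.H53.HC.WPerm

/-!
# Two-parameter Harish-Chandra induction in groups with a root group datum (helper804, S4832)

* `indFun_comp` : induction and automorphisms;
* `inner_indFun_rgd` : two characters of `P_J`, the first one cuspidal, the second one trivial on `V_J`: the induced
  characters are orthogonal if the Mackey terms of the elements permuting the simple roots of `J` vanish;
* `exists_irr_MJ_aut` : `H53.HC.exists_irr_MJ`, and the character is not invariant under an automorphism `β` which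
  preserves `T`, `M_J`, `V_J` unless `θ (β (g⁻¹ m g)) = θ m` for some `g` over an element permuting the simple roots
  of `J`.
-/

set_option autoImplicit false

open scoped ComplexConjugate Pointwise
open Cfsg

namespace Cfsg.Agent.H804.Ext

open Cfsg.Agent.OddOrderCharacters.Clifford Cfsg.Agent.Characters Cfsg.Agent.H53.HC

section mackey

variable {G : Type*} [Group G]

/-- induction and automorphisms -/
theorem indFun_comp [Fintype G] (β : MulAut G) (P : Subgroup G) (hP : ∀ g, β g ∈ P ↔ g ∈ P) (ψ : P → ℂ) :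
    indFun P (fun t => ψ ⟨β t, (hP t).2 t.2⟩) = indFun P ψ ∘ β := by
  funext g
  rw [Function.comp_apply, indFun_apply, indFun_apply]
  congr 1
  refine Fintype.sum_equiv β.toEquiv _ _ fun x => ?_
  have e : (β.toEquiv x)⁻¹ * β g * β.toEquiv x = β (x⁻¹ * g * x) := by
    change (β x)⁻¹ * β g * β x = _
    rw [map_mul, map_mul, map_inv]
  rw [e]
  by_cases h : x⁻¹ * g * x ∈ P
  · rw [ext_apply_mem P _ _ h, ext_apply_mem P _ _ ((hP _).2 h)]
  · rw [ext_apply_not_mem P _ _ h, ext_apply_not_mem P _ _ (fun h' => h ((hP _).1 h'))]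

/-- **Mackey's formula** on representatives, two characters. -/
theorem inner_indFun_rep [Fintype G] (P : Subgroup G) {ψ ψ' : P → ℂ} (hψ : IsCharacter P ψ) (hψ' : IsCharacter P ψ')
    (h : ∀ x : G, x ∉ P → ∃ a ∈ P, ∃ b ∈ P, ∃ y, x = a * y * b ∧
      ∃ (L : Subgroup G) (hL : L ≤ P) (hL' : ∀ l ∈ L, y⁻¹ * l * y ∈ P),
      ∀ [Fintype L], ∑ l : L, ψ ⟨l, hL l.2⟩ * conj (ψ' ⟨y⁻¹ * l * y, hL' l l.2⟩) = 0)
    [Fintype P] : classInner (indFun P ψ) (indFun P ψ') = classInner ψ ψ' := by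
  classical
  rw [classInner_indFun_eq P _ _ (Core.isCharacter_isClassFunction hψ')]
  intro x hx
  obtain ⟨a, ha, b, hb, y, rfl, L, hL, hL', h0⟩ := h x hx
  have : Fintype L := Fintype.ofFinite L
  rw [twist_mul P (Core.isCharacter_isClassFunction hψ) (Core.isCharacter_isClassFunction hψ') ha hb]
  exact twist_eq_zero_of_sub P hψ hψ' y L hL hL' h0

end mackey

section rgd

open CoxeterSystem Cfsg.Agent.ChevalleyStructure.CoxeterGeom Cfsg.Agent.Tits.Roots Cfsg.Agent.Tits.Core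
  Cfsg.Agent.Tits.Exchange Cfsg.Agent.Nodes.Reps Cfsg.Agent.Nodes.BNOf Cfsg.Agent.Nodes.StabComb
  Cfsg.Agent.Nodes.Bruhat Cfsg.Agent.Nodes.OppDec Cfsg.Agent.Nodes.LeviDec

variable {I W Y : Type*} [Fintype I] [DecidableEq I] [Group W] [Group Y] {M : CoxeterMatrix I}
  {cs : CoxeterSystem M W} {A : I → I → ℤ} {h : IsCartan M A} {p : ℕ} {T : Subgroup Y} {n : I → Y}
  {X : (I → ℤ) → Subgroup Y}

/-- automorphisms preserving `T`, `M_J`, `V_J` -/
structure Compat (cs : CoxeterSystem M W) (h : IsCartan M A) (T : Subgroup Y) (X : (I → ℤ) → Subgroup Y) (J : Set I)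
    (β : MulAut Y) : Prop where
  tor : ∀ t, β t ∈ T ↔ t ∈ T
  mj : ∀ m, β m ∈ MJ cs h X J ↔ m ∈ MJ cs h X J
  vj : ∀ v, β v ∈ VJ cs h X J ↔ v ∈ VJ cs h X J

theorem map_iff {K : Subgroup Y} {β : MulAut Y} : (∀ g, β g ∈ K ↔ g ∈ K) ↔ K.map β.toMonoidHom = K := by
  constructor
  · intro hK
    ext x
    constructor
    · rintro ⟨y, hy, rfl⟩
      exact (hK y).2 hy
    · intro hx
      refine ⟨β⁻¹ x, (hK _).1 (by rwa [MulAut.apply_inv_self]), MulAut.apply_inv_self _ β x⟩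
  · intro hK g
    constructor
    · intro hg
      rw [← hK] at hg
      obtain ⟨y, hy, e⟩ := hg
      rwa [← β.injective e]
    · intro hg
      rw [← hK]
      exact ⟨g, hg, rfl⟩

theorem Compat.pj {J : Set I} {β : MulAut Y} (hβ : Compat cs h T X J β) (g : Y) :
    β g ∈ PJ cs h T X J ↔ g ∈ PJ cs h T X J := by
  refine map_iff.2 ?_ g
  have h1 := map_iff.1 hβ.tor
  have h2 := map_iff.1 hβ.mj
  have h3 := map_iff.1 hβ.vj
  change (LJ cs h T X J ⊔ VJ cs h X J).map β.toMonoidHom = _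
  rw [LJ_eq, Subgroup.map_sup, Subgroup.map_sup, h1, h2, h3]
  rfl

variable (R : RGD cs h p T n X)

include R

/-- **Two-parameter orthogonality.** -/
theorem inner_indFun_rgd [Finite W] [Fintype Y] (hG : GG cs h T X = ⊤) (J : Set I)
    {ψ ψ' : ↥(PJ cs h T X J) → ℂ} (hψ : IsCharacter _ ψ) (hψ' : IsCharacter _ ψ')
    (hV : ∀ (v : Y) (hv : v ∈ VJ cs h X J), ψ' ⟨v, VJ_le_PJ hv⟩ = ψ' 1)
    (hc : ∀ i ∈ J, ∀ [Fintype (rad cs h X J i)], ∑ u : rad cs h X J i, ψ ⟨u, rad_le_PJ J i u.2⟩ = 0)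
    (hs : ∀ w g, Rp cs R.nsys w g → w ∉ WJ cs J → Perm cs h J w →
      ∃ (L : Subgroup Y) (hL : L ≤ PJ cs h T X J) (hL' : ∀ l ∈ L, g⁻¹ * l * g ∈ PJ cs h T X J),
        ∀ [Fintype L], ∑ l : L, ψ ⟨l, hL l.2⟩ * conj (ψ' ⟨g⁻¹ * l * g, hL' l l.2⟩) = 0)
    [Fintype ↥(PJ cs h T X J)] :
    classInner (indFun (PJ cs h T X J) ψ) (indFun (PJ cs h T X J) ψ') = classInner ψ ψ' := by
  classical
  refine inner_indFun_rep _ hψ hψ' fun x hx => ?_
  obtain ⟨a, ha, b, hb, w, g, hg, e, hwJ, h1, h2⟩ := exists_min_rep R hG J hx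
  refine ⟨a, ha, b, hb, g, e, ?_⟩
  rcases perm_or h1 h2 with hp | ⟨i, hi, hrad⟩
  · exact hs w g hg hwJ hp
  · have hconj : ∀ l ∈ rad cs h X J i, g⁻¹ * l * g ∈ VJ cs h X J := fun l hl =>
      conj_mem_Sup' R hg (fun x hx => hx.1.1) hrad hl
    refine ⟨rad cs h X J i, rad_le_PJ J i, fun l hl => VJ_le_PJ (hconj l hl), ?_⟩
    intro hf
    have h3 : ∀ l : rad cs h X J i, ψ ⟨l, rad_le_PJ J i l.2⟩ *
        conj (ψ' ⟨g⁻¹ * l * g, VJ_le_PJ (hconj l l.2)⟩) = ψ ⟨l, rad_le_PJ J i l.2⟩ * conj (ψ' 1) := by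
      intro l
      rw [hV _ (hconj l l.2)]
    rw [Finset.sum_congr rfl fun l _ => h3 l, ← Finset.sum_mul, hc i hi, zero_mul]

omit R in
/-- an element of `W_J` permuting the simple roots of `J` is trivial -/
theorem eq_one_of_perm {J : Set I} {w : W} (hw : Perm cs h J w) (hwJ : w ∈ WJ cs J) : w = 1 := by
  refine eq_one_of_nonneg (cs := cs) (h := h) fun i => ?_
  by_cases hi : i ∈ J
  · obtain ⟨k, -, e⟩ := hw.2 i hi
    rw [e]
    exact sr_nonneg k
  · have h1 : rep cs h w (sr i) i = 1 := by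
      rw [Cfsg.Agent.Tits.RootComb.rep_apply_of_mem cs h hwJ (sr i) hi, sr_self]
    rcases ((isRoot_sr cs h i).act w).pos_or_neg with h4 | h4
    · exact h4
    · have := h4 i
      rw [h1] at this
      exact absurd this (by simp)

omit R in
theorem perm_one (J : Set I) : Perm cs h J 1 := by
  constructor <;> intro i hi
  · exact ⟨i, hi, by rw [inv_one, map_one]; rfl⟩
  · exact ⟨i, hi, by rw [map_one]; rfl⟩

/-- **Irreducible characters of a group with a root group datum from the cuspidal characters of `M_J`**, and the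
automorphisms fixing them. -/
theorem exists_irr_MJ_aut [Finite W] [Fintype Y] (hG : GG cs h T X = ⊤) (J : Set I)
    {θ : ↥(MJ cs h X J) → ℂ} (hθ : IsIrrCharacter _ θ)
    (hc : ∀ i ∈ J, ∀ [Fintype (rad cs h X J i)], ∑ u : rad cs h X J i, θ ⟨u, rad_le_MJ J i u.2⟩ = 0)
    (hs : ∀ w g (hg : Rp cs R.nsys w g), w ∉ WJ cs J → ∀ hw : Perm cs h J w,
      ∃ (m : Y) (hm : m ∈ MJ cs h X J), θ ⟨g⁻¹ * m * g, conj_mem_MJ R hg hw hm⟩ ≠ θ ⟨m, hm⟩) :
    ∃ χ : Y → ℂ, IsIrrCharacter Y χ ∧ (∃ k : ℕ, 0 < k ∧ χ 1 = (PJ cs h T X J).index * (k * θ 1)) ∧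
      ∀ β : MulAut Y, ∀ hβ : Compat cs h T X J β, χ ∘ β = χ → ∃ w g, ∃ hg : Rp cs R.nsys w g,
        ∃ hw : Perm cs h J w, (w = 1 ∨ w ∉ WJ cs J) ∧ ∀ (m : Y) (hm : m ∈ MJ cs h X J),
          θ ⟨β (g⁻¹ * m * g), (hβ.mj _).2 (conj_mem_MJ R hg hw hm)⟩ = θ ⟨m, hm⟩ := by
  classical
  obtain ⟨ψ, hψ, ⟨k, hk, hk1⟩, c, s, hres, hsφ⟩ := exists_over (MJ_le_LJ (T := T) J) (LJ_le_normalizer_MJ R J) hθ
  obtain ⟨ψ', hψ', hψL, hψV⟩ := exists_infl R J hψ
  have hres' : ∀ (m : Y) (hm : m ∈ MJ cs h X J), ψ' ⟨m, LJ_le_PJ (MJ_le_LJ J hm)⟩ = c * ∑ φ ∈ s, φ ⟨m, hm⟩ := by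
    intro m hm
    rw [hψL]
    exact hres ⟨m, hm⟩
  -- the conjugates are conjugates under the torus
  have hsT : ∀ φ ∈ s, ∃ t, ∃ ht : t ∈ T, φ = θ ∘ conjME (MJ cs h X J) (T_le_normalizer_MJ R J ht) := by
    intro φ hφ
    obtain ⟨g, hg, hgφ⟩ := hsφ φ hφ
    obtain ⟨m, hm, t, ht, rfl⟩ := (mem_LJ_iff_mul' R J).1 hg
    refine ⟨t, ht, ?_⟩
    funext x
    obtain ⟨hx', e⟩ := hgφ x x.2
    rw [e, Function.comp_apply]
    have h1 := Core.isIrr_isClassFunction hθ (conjME (MJ cs h X J) (T_le_normalizer_MJ R J ht) x) ⟨m, hm⟩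
    rw [← h1]
    congr 1
    apply Subtype.ext
    simp only [conjME_coe, Subgroup.coe_mul, InvMemClass.coe_inv]
    group
  have hcusp : ∀ i ∈ J, ∀ [Fintype (rad cs h X J i)], ∑ u : rad cs h X J i, ψ' ⟨u, rad_le_PJ J i u.2⟩ = 0 := by
    intro i hi hf
    have h1 : ∀ u : rad cs h X J i, ψ' ⟨u, rad_le_PJ J i u.2⟩ = c * ∑ φ ∈ s, φ ⟨u, rad_le_MJ J i u.2⟩ :=
      fun u => hres' u (rad_le_MJ J i u.2)
    rw [Finset.sum_congr rfl fun u _ => h1 u, ← Finset.mul_sum, Finset.sum_comm]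
    rw [Finset.sum_eq_zero, mul_zero]
    intro φ hφ
    obtain ⟨t, ht, rfl⟩ := hsT φ hφ
    rw [← hc i hi]
    exact Fintype.sum_equiv (conjME (rad cs h X J i) (T_le_normalizer_rad R J i ht)).toEquiv _ _ fun u => rfl
  -- the key computation on `M_J`
  have key : ∀ (β : MulAut Y) (hβ : Compat cs h T X J β) (w : W) (g : Y) (hg : Rp cs R.nsys w g)
      (hw : Perm cs h J w), (∀ g', ∀ hg' : Rp cs R.nsys w g', ∃ (m : Y) (hm : m ∈ MJ cs h X J),
        θ ⟨β (g'⁻¹ * m * g'), (hβ.mj _).2 (conj_mem_MJ R hg' hw hm)⟩ ≠ θ ⟨m, hm⟩) →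
      ∀ [Fintype (MJ cs h X J)], ∑ l : MJ cs h X J, ψ' ⟨l, LJ_le_PJ (MJ_le_LJ J l.2)⟩ *
        conj (ψ' ⟨β (g⁻¹ * l * g), LJ_le_PJ (MJ_le_LJ J ((hβ.mj _).2 (conj_mem_MJ R hg hw l.2)))⟩) = 0 := by
    intro β hβ w g hg hp hne0 hf
    let γ : ↥(MJ cs h X J) ≃* ↥(MJ cs h X J) :=
      (conjME (MJ cs h X J) (inv_mem (rp_mem_normalizer_MJ R hg hp))).trans
        { toFun := fun x => ⟨β x, (hβ.mj _).2 x.2⟩
          invFun := fun x => ⟨β⁻¹ x, (hβ.mj _).1 (by rw [MulAut.apply_inv_self]; exact x.2)⟩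
          left_inv := fun x => Subtype.ext (MulAut.inv_apply_self _ β x)
          right_inv := fun x => Subtype.ext (MulAut.apply_inv_self _ β x)
          map_mul' := fun x y => Subtype.ext (map_mul β _ _) }
    have hγ : ∀ l : MJ cs h X J, (γ l : Y) = β (g⁻¹ * l * g) := by
      intro l
      change β ((conjME (MJ cs h X J) (inv_mem (rp_mem_normalizer_MJ R hg hp)) l : Y)) = _
      rw [conjME_coe, inv_inv]
    have h1 : ∀ l : MJ cs h X J, ψ' ⟨l, LJ_le_PJ (MJ_le_LJ J l.2)⟩ *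
        conj (ψ' ⟨β (g⁻¹ * l * g), LJ_le_PJ (MJ_le_LJ J ((hβ.mj _).2 (conj_mem_MJ R hg hp l.2)))⟩) =
        ∑ φ ∈ s, ∑ φ' ∈ s, (c * conj c) * (φ l * conj ((φ' ∘ γ) l)) := by
      intro l
      have e2 : (⟨β (g⁻¹ * l * g), (hβ.mj _).2 (conj_mem_MJ R hg hp l.2)⟩ : MJ cs h X J) = γ l :=
        Subtype.ext (hγ l).symm
      rw [hres' l l.2, hres' _ ((hβ.mj _).2 (conj_mem_MJ R hg hp l.2)), e2, map_mul, map_sum]
      simp only [← Finset.mul_sum, Function.comp_apply]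
      rw [← Finset.sum_mul]
      ring
    rw [Finset.sum_congr rfl fun l _ => h1 l, Finset.sum_comm]
    refine Finset.sum_eq_zero fun φ hφ => ?_
    rw [Finset.sum_comm]
    refine Finset.sum_eq_zero fun φ' hφ' => ?_
    rw [← Finset.mul_sum]
    obtain ⟨t, ht, rfl⟩ := hsT φ hφ
    obtain ⟨t', ht', rfl⟩ := hsT φ' hφ'
    have hne : θ ∘ conjME (MJ cs h X J) (T_le_normalizer_MJ R J ht) ≠
        (θ ∘ conjME (MJ cs h X J) (T_le_normalizer_MJ R J ht')) ∘ γ := by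
      intro he
      have htb : β⁻¹ t' ∈ T := (hβ.tor _).1 (by rwa [MulAut.apply_inv_self])
      have hg' : Rp cs R.nsys w (t * g * (β⁻¹ t')⁻¹) := by
        have h2 := ((rp_of_mem (cs := cs) (hN := R.nsys) ht).mul hg).mul
          (rp_of_mem (cs := cs) (hN := R.nsys) (inv_mem htb))
        rwa [one_mul, mul_one] at h2
      obtain ⟨m, hm, hne⟩ := hne0 _ hg'
      apply hne
      have h3 := congrFun he (conjME (MJ cs h X J) (inv_mem (T_le_normalizer_MJ R J ht)) ⟨m, hm⟩)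
      simp only [Function.comp_apply] at h3
      refine Eq.trans ?_ (h3.symm.trans ?_)
      · congr 1
        apply Subtype.ext
        simp only [conjME_coe, hγ, mul_inv_rev, inv_inv, map_mul, map_inv, MulAut.apply_inv_self]
        group
      · congr 1
        apply Subtype.ext
        simp only [conjME_coe]
        group
    have hi1 : IsIrrCharacter _ (θ ∘ conjME (MJ cs h X J) (T_le_normalizer_MJ R J ht)) :=
      Core.isIrr_comp (conjME _ (T_le_normalizer_MJ R J ht)).toMonoidHom (MulEquiv.surjective _) hθ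
    have hi2 : IsIrrCharacter _ (θ ∘ conjME (MJ cs h X J) (T_le_normalizer_MJ R J ht')) :=
      Core.isIrr_comp (conjME _ (T_le_normalizer_MJ R J ht')).toMonoidHom (MulEquiv.surjective _) hθ
    have hi3 : IsIrrCharacter _ ((θ ∘ conjME (MJ cs h X J) (T_le_normalizer_MJ R J ht')) ∘ γ) :=
      Core.isIrr_comp γ.toMonoidHom (MulEquiv.surjective _) hi2
    have h4 := Core.classInner_irr_ne hi1 hi3 hne
    rw [Core.classInner_def, mul_eq_zero] at h4
    rcases h4 with h4 | h4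
    · exact absurd (inv_eq_zero.1 h4) Core.card_ne_zero_complex
    · rw [mul_eq_zero]
      exact Or.inr h4
  have hcomp1 : Compat cs h T X J (1 : MulAut Y) := ⟨fun _ => Iff.rfl, fun _ => Iff.rfl, fun _ => Iff.rfl⟩
  have hirr : IsIrrCharacter Y (indFun (PJ cs h T X J) ψ') := by
    refine isIrr_indFun_rgd R hG J hψ' hψV hcusp ?_
    intro w g hg hw hp
    refine ⟨MJ cs h X J, le_trans (MJ_le_LJ J) LJ_le_PJ,
      fun l hl => LJ_le_PJ (MJ_le_LJ J (conj_mem_MJ R hg hp hl)), ?_⟩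
    intro hf
    exact key 1 hcomp1 w g hg hp (fun g' hg' => hs w g' hg' hw hp)
  refine ⟨indFun (PJ cs h T X J) ψ', hirr, ⟨k, hk, ?_⟩, ?_⟩
  · rw [indFun_one]
    congr 1
    rw [← hk1]
    exact hψL 1 (one_mem _)
  · intro β hβ hfix
    by_contra hcon
    push Not at hcon
    have hbad : ∀ w, ∀ hw : Perm cs h J w, (w = 1 ∨ w ∉ WJ cs J) → ∀ g', ∀ hg' : Rp cs R.nsys w g',
        ∃ (m : Y) (hm : m ∈ MJ cs h X J),
          θ ⟨β (g'⁻¹ * m * g'), (hβ.mj _).2 (conj_mem_MJ R hg' hw hm)⟩ ≠ θ ⟨m, hm⟩ :=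
      fun w hw h1 g' hg' => hcon w g' hg' hw h1
    have hPf : Fintype ↥(PJ cs h T X J) := Fintype.ofFinite _
    have hPMf : Fintype ↥(MJ cs h X J) := Fintype.ofFinite _
    have hψc := Core.isIrr_isCharacter hψ'
    let ψ₂ : ↥(PJ cs h T X J) → ℂ := fun t => ψ' ⟨β t, (hβ.pj t).2 t.2⟩
    have hψ₂ : IsCharacter _ ψ₂ := by
      let f : ↥(PJ cs h T X J) →* ↥(PJ cs h T X J) :=
        { toFun := fun t => ⟨β t, (hβ.pj t).2 t.2⟩
          map_one' := Subtype.ext (map_one β)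
          map_mul' := fun x y => Subtype.ext (map_mul β _ _) }
      exact Core.isCharacter_comp f hψc
    have h1 := inner_indFun_rgd R hG J hψc hψ₂ (fun v hv => by
        change ψ' ⟨β v, _⟩ = ψ' ⟨β 1, _⟩
        rw [hψV (β v) ((hβ.vj v).2 hv)]
        congr 1
        exact Subtype.ext (map_one β).symm) hcusp (fun w g hg hwJ hp =>
        ⟨MJ cs h X J, le_trans (MJ_le_LJ J) LJ_le_PJ,
          fun l hl => LJ_le_PJ (MJ_le_LJ J (conj_mem_MJ R hg hp hl)), fun {hf} =>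
            key β hβ w g hg hp (hbad w hp (Or.inr hwJ))⟩)
    have h2 : indFun (PJ cs h T X J) ψ₂ = indFun (PJ cs h T X J) ψ' :=
      (indFun_comp β _ hβ.pj ψ').trans hfix
    rw [h2, Core.classInner_irr_self hirr] at h1
    have h3 : classInner ψ' ψ₂ = 0 := by
      refine classInner_eq_zero_of_comp (Subgroup.inclusion (le_trans (MJ_le_LJ (T := T) J) LJ_le_PJ)) hψc hψ₂ ?_
      rw [Core.classInner_def]
      have h4 := key β hβ 1 1 rp_one (perm_one J) (hbad 1 (perm_one J) (Or.inl rfl))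
      have h5 : ∑ l : MJ cs h X J, (ψ' ∘ (Subgroup.inclusion (le_trans (MJ_le_LJ (T := T) J) LJ_le_PJ))) l *
          conj ((ψ₂ ∘ (Subgroup.inclusion (le_trans (MJ_le_LJ (T := T) J) LJ_le_PJ))) l) = 0 := by
        rw [← h4]
        refine Finset.sum_congr rfl fun l _ => ?_
        rw [Function.comp_apply, Function.comp_apply]
        congr 2
        change ψ' ⟨β l, _⟩ = ψ' _
        congr 1
        apply Subtype.ext
        change β l = β (1⁻¹ * l * 1)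
        rw [inv_one, one_mul, mul_one]
      rw [h5, mul_zero]
    rw [h3] at h1
    exact one_ne_zero h1

omit R in
theorem Compat.of_fix {J : Set I} {β : MulAut Y} (hX : ∀ x, IsRoot cs h x → ∀ u, β u ∈ X x ↔ u ∈ X x)
    (hT : ∀ u, β u ∈ T ↔ u ∈ T) : Compat cs h T X J β := by
  have key : ∀ S : Set (I → ℤ), (∀ x ∈ S, IsRoot cs h x) → ∀ u, β u ∈ RGD.Sup X S ↔ u ∈ RGD.Sup X S := by
    intro S hS
    refine map_iff.2 ?_
    unfold RGD.Sup
    rw [Subgroup.map_iSup]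
    congr 1
    funext z
    exact map_iff.1 (hX z.1 (hS _ z.2))
  exact ⟨hT, key _ fun x hx => hx.1, key _ fun x hx => hx.1⟩

/-- `exists_irr_MJ_aut` for the automorphisms fixing the root groups and the torus -/
theorem exists_irr_MJ_two [Finite W] [Fintype Y] (hG : GG cs h T X = ⊤) (J : Set I)
    {θ : ↥(MJ cs h X J) → ℂ} (hθ : IsIrrCharacter _ θ)
    (hc : ∀ i ∈ J, ∀ [Fintype (rad cs h X J i)], ∑ u : rad cs h X J i, θ ⟨u, rad_le_MJ J i u.2⟩ = 0)
    (hs : ∀ w g (hg : Rp cs R.nsys w g), w ∉ WJ cs J → ∀ hw : Perm cs h J w,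
      ∃ (m : Y) (hm : m ∈ MJ cs h X J), θ ⟨g⁻¹ * m * g, conj_mem_MJ R hg hw hm⟩ ≠ θ ⟨m, hm⟩) :
    ∃ χ : Y → ℂ, IsIrrCharacter Y χ ∧ (∃ k : ℕ, 0 < k ∧ χ 1 = (PJ cs h T X J).index * (k * θ 1)) ∧
      ∀ β : MulAut Y, (∀ x, IsRoot cs h x → ∀ u, β u ∈ X x ↔ u ∈ X x) → (∀ u, β u ∈ T ↔ u ∈ T) →
        (∀ w g, Rp cs R.nsys w g → Perm cs h J w → (w = 1 ∨ w ∉ WJ cs J) →
          ∃ (m : Y) (hm : m ∈ MJ cs h X J) (hm' : β (g⁻¹ * m * g) ∈ MJ cs h X J),
            θ ⟨β (g⁻¹ * m * g), hm'⟩ ≠ θ ⟨m, hm⟩) → ∃ y, χ (β y) ≠ χ y := by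
  obtain ⟨χ, hχ, hd, hβ⟩ := exists_irr_MJ_aut R hG J hθ hc hs
  refine ⟨χ, hχ, hd, fun β hX hT hn => ?_⟩
  by_contra hcon
  push Not at hcon
  obtain ⟨w, g, hg, hw, h1, h2⟩ := hβ β (Compat.of_fix hX hT) (funext hcon)
  obtain ⟨m, hm, hm', hne⟩ := hn w g hg hw h1
  exact hne (h2 m hm)

end rgd

end Cfsg.Agent.H804.Ext
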