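import Mathlib
import Cfsg.Agent.H622.Levi.NonSwap
import Cfsg.Agent.ChevalleyStructure.SL2Hom

/-!
# Field-generic cuspidal characters for a component of type `A_1` (helper804, S4832)

* `eq_one_of_inv` : a constituent `η` of the restriction to `SL_2(F)` of `psi L Θ`, `Θ = powTheta θ₀ (q - 1)`, is not
  invariant under `x ↦ C x^τ C⁻¹` for `τ ≠ 1`;
* `exists_node` : a cuspidal character of `M_{i}` which is not invariant under the automorphisms acting on the root
  group of `i` by `a ↦ c τ(a)`, `τ ≠ 1`.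
-/

set_option autoImplicit false
set_option linter.unusedSectionVars false

open scoped ComplexConjugate
open Cfsg

namespace Cfsg.Agent.H804.Ext

/-- the arithmetic -/
theorem ns2 {p e j : ℕ} (hp : p.Prime) (hj : j < e) (h : (p ^ e + 1) ∣ 2 * (p ^ j - 1) ∨ (p ^ e + 1) ∣ 2 * (p ^ j + 1)) :
    j = 0 := by
  by_contra hne
  have hj0 : 0 < j := Nat.pos_of_ne_zero hne
  have hp2 := hp.two_le
  obtain ⟨k, rfl⟩ := Nat.exists_eq_add_of_lt hj
  have e1 : p ^ (j + k + 1) = p * (p ^ k * p ^ j) := by ring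
  have h2 : 2 ≤ p ^ j := hp2.trans (Nat.le_self_pow hne p)
  have h3 : 1 ≤ p ^ k := Nat.one_le_pow _ _ (by omega)
  set x := p ^ j with hx
  have h4 : x ≤ p ^ k * x := Nat.le_mul_of_pos_left x (by omega)
  set y := p ^ k * x with hy
  have h5 : 2 * y ≤ p * y := Nat.mul_le_mul_right y hp2
  rw [e1] at h
  rcases h with h | h
  · have := Nat.le_of_dvd (by omega) h
    omega
  · obtain ⟨c, hc⟩ := h
    have hc1 : c = 1 := by
      have h6 : c < 2 := by
        by_contra h7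
        have h8 : (p * y + 1) * 2 ≤ (p * y + 1) * c := Nat.mul_le_mul_left _ (by omega)
        omega
      have h7 : c ≠ 0 := by
        rintro rfl
        omega
      omega
    rw [hc1, mul_one] at hc
    have h6 : p ∣ 2 * x := Dvd.dvd.mul_left (dvd_pow_self p hne) 2
    have h7 : p ∣ 1 := by
      have h8 : 2 * x + 1 = p * y := by omega
      have h9 : p ∣ 2 * x + 1 := by rw [h8]; exact dvd_mul_right _ _
      exact (Nat.dvd_add_right h6).1 h9
    have := Nat.le_of_dvd one_pos h7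
    omega

section main

open Cfsg.Agent.H139.Cusp Cfsg.Agent.Characters Matrix Cfsg.Agent.H53.HC.Gal

variable {F : Type*} [Field F] [Finite F] {L : Type*} [Field L] [Finite L] [Algebra F L]
  {θ : L →*₀ ℂ} (hθ : Function.Injective θ)

include hθ

/-- **No invariance under the field automorphisms.** -/
theorem eq_one_of_inv (hn : Module.finrank F L = 2) (hq0 : Nat.card F - 1 ≠ 0)
    {η : SpecialLinearGroup (Fin 2) F → ℂ} (hη : IsIrrCharacter _ η)
    (hc : IsCharacter _ (psi (n := 2) (F := F) L (powTheta θ (Nat.card F - 1) hq0) ∘ SpecialLinearGroup.toGL - η))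
    (τ : F ≃+* F) (C : GL (Fin 2) F) (α : SpecialLinearGroup (Fin 2) F →* SpecialLinearGroup (Fin 2) F)
    (hα : ∀ x, (α x : Matrix (Fin 2) (Fin 2) F) =
      C * (x : Matrix (Fin 2) (Fin 2) F).map τ * ((C⁻¹ : GL (Fin 2) F) : Matrix (Fin 2) (Fin 2) F))
    (hinv : η ∘ α = η) : τ = 1 := by
  classical
  have : Fintype F := Fintype.ofFinite F
  obtain ⟨p, hp'⟩ := CharP.exists F
  have hpf : Fact p.Prime := ⟨CharP.char_is_prime F p⟩
  have hp : p.Prime := hpf.out
  obtain ⟨f, hf⟩ : ∃ f : ℕ+, Fintype.card F = p ^ (f : ℕ) := by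
    obtain ⟨f, -, hf⟩ := FiniteField.card F p
    exact ⟨f, hf⟩
  have hq : Nat.card F = p ^ (f : ℕ) := by rw [Nat.card_eq_fintype_card, hf]
  -- the exponent may be taken less than `f`
  obtain ⟨j, hjf, hj⟩ : ∃ j : ℕ, j < f ∧ ∀ x : F, τ x = x ^ p ^ j := by
    obtain ⟨j, hj⟩ := exists_frob_pow (p := p) τ
    refine ⟨j % f, Nat.mod_lt _ f.2, fun x => ?_⟩
    rw [hj]
    have h1 : ∀ k : ℕ, ∀ y : F, y ^ p ^ ((f : ℕ) * k) = y := by
      intro k y
      induction k with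
      | zero => rw [mul_zero, pow_zero, pow_one]
      | succ k ih =>
        rw [mul_add, mul_one, pow_add, pow_mul, ih, ← hf, FiniteField.pow_card]
    conv_lhs => rw [← Nat.div_add_mod j (f : ℕ)]
    rw [pow_add, pow_mul, h1]
  obtain ⟨σ, hσ, hστ⟩ := exists_ext (L := L) hj
  set Θ := powTheta θ (Nat.card F - 1) hq0 with hΘ
  let Θ₁ : L →*₀ ℂ := Θ.comp (σ : L →+* L).toMonoidWithZeroHom
  have hΘ₁ : ∀ x, Θ (σ x) = Θ₁ x := fun x => rfl
  have h1 : (psi (n := 2) (F := F) L Θ ∘ SpecialLinearGroup.toGL) ∘ α =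
      psi L Θ₁ ∘ SpecialLinearGroup.toGL := by
    funext x
    rw [Function.comp_apply, Function.comp_apply, Function.comp_apply]
    have h2 : psi L Θ (SpecialLinearGroup.toGL (α x)) = cuspMat L Θ ((x : Matrix (Fin 2) (Fin 2) F).map τ) := by
      let T : SpecialLinearGroup (Fin 2) F := ⟨(x : Matrix (Fin 2) (Fin 2) F).map τ, by
          have h3 : ((x : Matrix (Fin 2) (Fin 2) F).map τ).det = τ ((x : Matrix (Fin 2) (Fin 2) F).det) :=
            (RingHom.map_det (τ : F →+* F) _).symm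
          rw [h3, x.2, map_one]⟩
      have h4 : ((C * SpecialLinearGroup.toGL T * C⁻¹ : GL (Fin 2) F) : Matrix (Fin 2) (Fin 2) F) = (α x).1 := by
        rw [hα]; rfl
      have h5 := cuspMat_conj Θ C (SpecialLinearGroup.toGL T)
      rw [h4] at h5
      exact h5
    rw [h2, cuspMat_semilinear hn hστ hΘ₁]
    rfl
  have h2 := Core.isCharacter_comp α hc
  have h3 : (psi (n := 2) (F := F) L Θ ∘ SpecialLinearGroup.toGL - η) ∘ α =
      psi L Θ₁ ∘ SpecialLinearGroup.toGL - η := by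
    rw [← h1]
    funext x
    change (psi L Θ ∘ SpecialLinearGroup.toGL) (α x) - (η ∘ α) x = _
    rw [hinv]
    rfl
  rw [h3] at h2
  have : Fintype (SpecialLinearGroup (Fin 2) F) := Fintype.ofFinite _
  obtain ⟨i, hi2, hi⟩ := exists_frob_eq hn _ _ (inner_ne_zero hη hc h2)
  -- arithmetic
  have hq2 : 2 ≤ Nat.card F := Finite.one_lt_card
  obtain ⟨γ, hγ⟩ := IsCyclic.exists_ofOrder_eq_natCard (α := Lˣ)
  set q := Nat.card F with hqd
  have hnorm : Algebra.norm F ((γ : L) ^ (q - 1)) = 1 := by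
    rw [map_pow]
    have h1 : Algebra.norm F (γ : L) ≠ 0 := by
      rw [Ne, Algebra.norm_eq_zero_iff]
      exact γ.ne_zero
    have h3 : (Units.mk0 _ h1) ^ (q - 1) = 1 := by
      rw [hqd, ← Nat.card_units]
      exact pow_card_eq_one'
    exact congrArg Units.val h3
  have h4 := hi _ hnorm
  rw [← hΘ₁, hσ, powTheta_apply, powTheta_apply] at h4
  -- `γ ^ ((q - 1) * p ^ j * (q - 1)) = γ ^ ((q - 1) * q ^ i * (q - 1))`
  have h5 : γ ^ ((q - 1) * p ^ j * (q - 1)) = γ ^ ((q - 1) * q ^ i * (q - 1)) := by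
    apply Units.ext
    rw [Units.val_pow_eq_pow_val, Units.val_pow_eq_pow_val]
    apply hθ
    rw [pow_mul (γ : L) ((q - 1) * p ^ j), pow_mul (γ : L) ((q - 1) * q ^ i), map_pow θ (_ ^ _) (q - 1),
      map_pow θ (_ ^ _) (q - 1), pow_mul, pow_mul, h4]
  rw [pow_eq_pow_iff_modEq, hγ, Nat.card_units, Module.natCard_eq_pow_finrank (K := F), hn, ← hqd] at h5
  have h6 : q ^ 2 - 1 = (q - 1) * (q + 1) := by
    obtain ⟨y, hy⟩ := Nat.exists_eq_add_of_le hq2
    rw [hy]
    have e1 : 2 + y - 1 = y + 1 := by omega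
    have e2 : (2 + y) ^ 2 = (y + 1) * ((2 + y) + 1) + 1 := by ring
    rw [e1]
    omega
  rw [h6] at h5
  have h7 : (q - 1) * p ^ j ≡ (q - 1) * q ^ i [MOD (q + 1)] := by
    have e1 : ∀ a, (q - 1) * a * (q - 1) = (q - 1) * ((q - 1) * a) := fun a => by ring
    rw [e1, e1] at h5
    exact Nat.ModEq.mul_left_cancel' (by omega) h5
  have h8 : ((q + 1 : ℕ) : ℤ) ∣ 2 * ((q : ℤ) ^ i - (p : ℤ) ^ j) := by
    have h9 := (Nat.modEq_iff_dvd.1 h7)
    have e1 : ((q - 1 : ℕ) : ℤ) = (q : ℤ) - 1 := by push_cast [Nat.cast_sub (by omega : 1 ≤ q)]; ring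
    push_cast [e1] at h9 ⊢
    have h10 : ((q : ℤ) + 1) ∣ (q + 1) * ((q : ℤ) ^ i - (p : ℤ) ^ j) := dvd_mul_right _ _
    have h11 := dvd_sub h10 h9
    have e2 : ((q : ℤ) + 1) * ((q : ℤ) ^ i - (p : ℤ) ^ j) - (((q : ℤ) - 1) * (q : ℤ) ^ i - ((q : ℤ) - 1) * (p : ℤ) ^ j) =
      2 * ((q : ℤ) ^ i - (p : ℤ) ^ j) := by ring
    rwa [e2] at h11
  have hj0 : j = 0 := by
    refine ns2 hp hjf ?_
    rw [← hq]
    have h1j : 1 ≤ p ^ j := Nat.one_le_pow _ _ hp.pos
    interval_cases i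
    · left
      rw [← Int.natCast_dvd_natCast]
      have e1 : ((2 * (p ^ j - 1) : ℕ) : ℤ) = 2 * ((p : ℤ) ^ j - 1) := by
        push_cast [Nat.cast_sub h1j]; ring
      have e3 : (2 : ℤ) * ((p : ℤ) ^ j - 1) = -(2 * (1 - (p : ℤ) ^ j)) := by ring
      rw [pow_zero] at h8
      rw [e1, e3, dvd_neg]
      exact h8
    · right
      rw [← Int.natCast_dvd_natCast]
      have e1 : ((2 * (p ^ j + 1) : ℕ) : ℤ) = 2 * ((p : ℤ) ^ j + 1) := by push_cast; ring
      rw [pow_one] at h8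
      have h9 : ((q + 1 : ℕ) : ℤ) ∣ 2 * ((q : ℤ) + 1) := by
        push_cast
        exact dvd_mul_left _ _
      have e3 : (2 : ℤ) * ((p : ℤ) ^ j + 1) = 2 * ((q : ℤ) + 1) - 2 * ((q : ℤ) - (p : ℤ) ^ j) := by ring
      rw [e1, e3]
      exact dvd_sub h9 h8
  ext x
  rw [hj, hj0, pow_zero, pow_one]
  rfl

end main

section eta

open Cfsg.Agent.H139.Cusp Cfsg.Agent.Characters Matrix Cfsg.Agent.H622.Levi

variable {F L : Type} [Field F] [Finite F] [Field L] [Finite L] [Algebra F L]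

theorem regular_two (hL : Module.finrank F L = 2) {θ : L →*₀ ℂ} (hθ : Function.Injective θ)
    (hq0 : Nat.card F - 1 ≠ 0) : Regular F 2 (powTheta θ (Nat.card F - 1) hq0) := by
  rw [regular_powTheta_iff hθ hq0 hL]
  intro i hi hi2 hdvd
  have hq : 2 ≤ Nat.card F := Finite.one_lt_card
  obtain rfl : i = 1 := by omega
  have h1 := Nat.le_of_dvd (by rw [pow_one]; exact Nat.mul_pos (by omega) (by omega)) hdvd
  obtain ⟨y, hy⟩ := Nat.exists_eq_add_of_le hq
  rw [hy, pow_one] at h1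
  have e1 : 2 + y - 1 = y + 1 := by omega
  have e2 : (2 + y) ^ 2 = (y + 1) * (y + 1) + 2 * y + 3 := by ring
  rw [e1, e2] at h1
  omega

/-- the constituents -/
theorem exists_eta_two (hL : Module.finrank F L = 2) {θ : L →*₀ ℂ} (hθ : Function.Injective θ)
    (hq0 : Nat.card F - 1 ≠ 0) :
    ∃ η : SpecialLinearGroup (Fin 2) F → ℂ, IsIrrCharacter _ η ∧
      IsCharacter _ (psi (n := 2) (F := F) L (powTheta θ (Nat.card F - 1) hq0) ∘ SpecialLinearGroup.toGL - η) ∧
      (∀ z ∈ Subgroup.center (SpecialLinearGroup (Fin 2) F), η z = η 1) ∧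
      (∀ i : Fin 1, ∀ [Fintype (UU F i)], ∑ g : UU F i, η g = 0) := by
  obtain ⟨η, e, t, h3, h3', h4, h5, h6, h7, h8⟩ := exists_sl_con (m := 1)
    (Ψ := psi (n := 2) (F := F) L (powTheta θ (Nat.card F - 1) hq0)) le_rfl
    (psi_isIrr _ hL (regular_two hL hθ hq0)) (psi_isCusp L _)
    (fun c => by
      have := psi_scalar (powTheta θ (Nat.card F - 1) hq0) hL c 1
      rw [mul_one] at this
      rw [this, powTheta_algebraMap hq0 dvd_rfl c.ne_zero, one_mul])
    (psi_one L _ (by norm_num))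
  exact ⟨η, h3, h3', h4, h5⟩

end eta

section semi

open Matrix Cfsg.Agent.H622.Levi Cfsg.Agent.ChevalleyStructure.SL2Hom

variable {F : Type*} [Field F]

theorem tr_up (h : (0 : Fin 2) ≠ 1) (t : F) : SpecialLinearGroup.transvection h t = up t := by
  ext i j
  fin_cases i <;> fin_cases j <;> simp [up, SpecialLinearGroup.transvection, Matrix.transvection]

theorem tr_lo (h : (1 : Fin 2) ≠ 0) (t : F) : SpecialLinearGroup.transvection h t = lo t := by
  ext i j
  fin_cases i <;> fin_cases j <;> simp [lo, SpecialLinearGroup.transvection, Matrix.transvection]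

/-- `diag (c, 1)` -/
def dg (c : F) (hc : c ≠ 0) : GL (Fin 2) F where
  val := !![c, 0; 0, 1]
  inv := !![c⁻¹, 0; 0, 1]
  val_inv := by ext i j; fin_cases i <;> fin_cases j <;> simp [Matrix.mul_apply, Fin.sum_univ_two, hc]
  inv_val := by ext i j; fin_cases i <;> fin_cases j <;> simp [Matrix.mul_apply, Fin.sum_univ_two, hc]

theorem dirHom_up (c : F) (hc : c ≠ 0) (τ : F ≃+* F) (a : F) : dirHom (dg c hc) τ (up a) = up (c * τ a) := by
  apply Subtype.ext
  rw [coe_dirHom]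
  change !![c, 0; 0, 1] * (!![1, a; 0, 1].map τ) * !![c⁻¹, 0; 0, 1] = !![1, c * τ a; 0, 1]
  have e : (!![1, a; 0, 1] : Matrix (Fin 2) (Fin 2) F).map τ = !![1, τ a; 0, 1] := by
    ext i j; fin_cases i <;> fin_cases j <;> simp
  rw [e]
  ext i j
  fin_cases i <;> fin_cases j <;> simp [Matrix.mul_apply, Fin.sum_univ_two, hc]

theorem dirHom_lo (c : F) (hc : c ≠ 0) (τ : F ≃+* F) (b : F) : dirHom (dg c hc) τ (lo b) = lo (c⁻¹ * τ b) := by
  apply Subtype.ext
  rw [coe_dirHom]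
  change !![c, 0; 0, 1] * (!![1, 0; b, 1].map τ) * !![c⁻¹, 0; 0, 1] = !![1, 0; c⁻¹ * τ b, 1]
  have e : (!![1, 0; b, 1] : Matrix (Fin 2) (Fin 2) F).map τ = !![1, 0; τ b, 1] := by
    ext i j; fin_cases i <;> fin_cases j <;> simp
  rw [e]
  ext i j
  fin_cases i <;> fin_cases j <;> simp [Matrix.mul_apply, Fin.sum_univ_two, hc, mul_comm]

variable {Y : Type*} [Group Y] {φ : SpecialLinearGroup (Fin 2) F →* Y}

theorem lo_zero : (lo (0 : F)) = 1 := by
  ext i j
  fin_cases i <;> fin_cases j <;> simp [lo]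

theorem nup (a : F) (ha : a ≠ 0) : (up a * lo (-a⁻¹) * up a) * up 1 = lo (-(a⁻¹ * a⁻¹)) * (up a * lo (-a⁻¹) * up a) := by
  apply Subtype.ext
  change !![1, a; 0, 1] * !![1, 0; -a⁻¹, 1] * !![1, a; 0, 1] * !![1, 1; 0, 1] =
    !![1, 0; -(a⁻¹ * a⁻¹), 1] * (!![1, a; 0, 1] * !![1, 0; -a⁻¹, 1] * !![1, a; 0, 1])
  ext i j
  fin_cases i <;> fin_cases j <;> simp [Matrix.mul_apply, Fin.sum_univ_two, ha]

theorem one_add_eq_zero {A b c y : F} (hc : c ≠ 0) {z : SpecialLinearGroup (Fin 2) F}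
    (hz : z ∈ Subgroup.center (SpecialLinearGroup (Fin 2) F))
    (e : (up A * lo b * up A) * up c = z * (lo y * (up A * lo b * up A))) : 1 + A * b = 0 := by
  rw [Matrix.SpecialLinearGroup.mem_center_iff] at hz
  obtain ⟨ζ, -, hζ⟩ := hz
  have e1 : !![1, A; 0, 1] * !![1, 0; b, 1] * !![1, A; 0, 1] * !![1, c; 0, 1] =
    z.1 * (!![1, 0; y, 1] * (!![1, A; 0, 1] * !![1, 0; b, 1] * !![1, A; 0, 1])) := congrArg Subtype.val e
  rw [← hζ] at e1
  have e2 := congrFun (congrFun e1 0) 0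
  have e3 := congrFun (congrFun e1 0) 1
  simp [Matrix.mul_apply, Fin.sum_univ_two] at e2 e3
  by_contra hne
  have h1 : ζ = 1 := by
    have : (1 + A * b) * (ζ - 1) = 0 := by linear_combination -e2
    rcases mul_eq_zero.1 this with h | h
    · exact absurd h hne
    · exact sub_eq_zero.1 h
  rw [h1] at e3
  have : (1 + A * b) * c = 0 := by linear_combination e3
  rcases mul_eq_zero.1 this with h | h
  · exact hne h
  · exact hc h

/-- **Semilinear automorphisms.** -/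
theorem eq_dirHom (hker : φ.ker ≤ Subgroup.center (SpecialLinearGroup (Fin 2) F)) {γ : MulAut Y} {τ : F ≃+* F} {c : F}
    (hc : c ≠ 0) (hup : ∀ a, γ (φ (up a)) = φ (up (c * τ a))) (hlo : ∀ b, ∃ b', γ (φ (lo b)) = φ (lo b'))
    (x : SpecialLinearGroup (Fin 2) F) : γ (φ x) = φ (dirHom (dg c hc) τ x) := by
  have hlo' : ∀ b, γ (φ (lo b)) = φ (lo (c⁻¹ * τ b)) := by
    intro b
    by_cases hb : b = 0
    · rw [hb, map_zero, mul_zero, lo_zero, map_one, map_one]
    obtain ⟨b', hb'⟩ := hlo b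
    obtain ⟨y, hy⟩ := hlo (-(b * b))
    have ha : -b⁻¹ ≠ 0 := neg_ne_zero.2 (inv_ne_zero hb)
    have h1 := nup _ ha
    have e0 : -(-b⁻¹)⁻¹ = b := by rw [inv_neg, inv_inv, neg_neg]
    have e0' : (-b⁻¹)⁻¹ = -b := by rw [inv_neg, inv_inv]
    rw [e0, e0', neg_mul_neg] at h1
    have h2 := congrArg (fun z => γ (φ z)) h1
    simp only [map_mul] at h2
    rw [hup, hup, hb', hy] at h2
    simp only [← map_mul] at h2
    rw [map_one, mul_one] at h2
    set A := c * τ (-b⁻¹) with hA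
    have h3 : (up A * lo b' * up A * up c) * (lo y * (up A * lo b' * up A))⁻¹ ∈ φ.ker := by
      rw [MonoidHom.mem_ker, map_mul, h2, map_inv, mul_inv_cancel]
    have h4 := one_add_eq_zero (z := (up A * lo b' * up A * up c) * (lo y * (up A * lo b' * up A))⁻¹) hc (hker h3)
      (by rw [inv_mul_cancel_right])
    have h5 : b' = c⁻¹ * τ b := by
      have hτb : τ b ≠ 0 := (map_ne_zero_iff τ τ.injective).2 hb
      have h6 : A = -(c * (τ b)⁻¹) := by rw [hA, map_neg, map_inv₀]; ring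
      rw [h6] at h4
      field_simp
      field_simp at h4
      linear_combination -h4
    rw [hb', h5]
  have : Nontrivial (Fin 2) := inferInstance
  refine Cfsg.Agent.LieClassical.SLGen.transvection_induction
    (fun x => γ (φ x) = φ (dirHom (dg c hc) τ x)) ?_ ?_ x
  · intro i j hij t
    fin_cases i <;> fin_cases j
    · exact absurd rfl hij
    · rw [tr_up, hup, dirHom_up]
    · rw [tr_lo, hlo', dirHom_lo]
    · exact absurd rfl hij
  · intro x y hx hy
    rw [map_mul, map_mul, map_mul, map_mul, hx, hy]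

end semi

section node

open CoxeterSystem Cfsg.Agent.ChevalleyStructure.CoxeterGeom Cfsg.Agent.Tits.Roots Cfsg.Agent.Tits.Core
  Cfsg.Agent.Tits.Exchange Cfsg.Agent.Nodes.Reps Cfsg.Agent.Nodes.BNOf Cfsg.Agent.Nodes.StabComb
  Cfsg.Agent.Nodes.Bruhat Cfsg.Agent.Nodes.OppDec Cfsg.Agent.Nodes.LeviDec
open Matrix Cfsg.Agent.ChevalleyStructure.SL2Hom Cfsg.Agent.H53.HC Cfsg.Agent.Characters
open Cfsg.Agent.H622.Levi (Co UU dirHom coe_dirHom exists_descend)
open Cfsg.Agent.LieRecognition.BNCox (cA)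

variable {I W Y : Type*} [Fintype I] [DecidableEq I] [Group W] [Group Y] {M : CoxeterMatrix I}
  {cs : CoxeterSystem M W} {A : I → I → ℤ} {h : IsCartan M A} {X : (I → ℤ) → Subgroup Y}

/-- `θ` is not invariant under the automorphisms of `Y` which act on the root group of `i` by a non-trivial field
automorphism -/
def Generic (cs : CoxeterSystem M W) (h : IsCartan M A) (X : (I → ℤ) → Subgroup Y) {F : Type} [Field F]
    (φ : SpecialLinearGroup (Fin 2) F →* Y) (K : Set I) (θ : ↥(MJ cs h X K) → ℂ) : Prop :=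
  ∀ (γ : MulAut Y) (τ : F ≃+* F) (c : F), c ≠ 0 → (∀ a, γ (φ (up a)) = φ (up (c * τ a))) →
    (∀ b, ∃ b', γ (φ (lo b)) = φ (lo b')) →
    (∀ (m : Y) (hm : m ∈ MJ cs h X K) (hm' : γ m ∈ MJ cs h X K), θ ⟨γ m, hm'⟩ = θ ⟨m, hm⟩) → τ = 1

/-- **Field-generic cuspidal characters of a component of type `A_1`.** -/
theorem exists_node [Finite W] [Finite Y] {i : I} {F : Type} [Field F] [Finite F]
    {φ : SpecialLinearGroup (Fin 2) F →* Y} (C : Co X (fun _ : Fin 1 => i) F φ) :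
    ∃ θ : ↥(MJ cs h X {i}) → ℂ, Cusp cs h X {i} θ ∧ Generic cs h X φ {i} θ := by
  let k : Fin 1 ↪ I := ⟨fun _ => i, fun a b _ => Subsingleton.elim a b⟩
  have hk : Set.range k = {i} := by
    ext x
    constructor
    · rintro ⟨_, rfl⟩; rfl
    · rintro rfl; exact ⟨0, rfl⟩
  have hkM : ∀ a b, M (k a) (k b) = cA 1 a b := by
    intro a b
    rw [Subsingleton.elim a b, M.diagonal, CoxeterMatrix.diagonal]
  suffices hmain : ∃ θ : ↥(MJ cs h X (Set.range k)) → ℂ, Cusp cs h X (Set.range k) θ ∧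
      Generic cs h X φ (Set.range k) θ by
    rw [hk] at hmain
    exact hmain
  have hq0 : Nat.card F - 1 ≠ 0 := by
    have : 1 < Nat.card F := Finite.one_lt_card
    omega
  obtain ⟨L, _, _, _, hL⟩ : ∃ (L : Type) (_ : Field L) (_ : Algebra F L) (_ : Finite L),
      Module.finrank F L = 2 := by
    obtain ⟨p, hp⟩ := CharP.exists F
    have : Fact p.Prime := ⟨CharP.char_is_prime F p⟩
    exact ⟨FiniteField.Extension F p 2, inferInstance, inferInstance, inferInstance,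
      FiniteField.finrank_extension F p 2⟩
  obtain ⟨θ₀, hθ₀⟩ := H139.Cusp.exists_theta L
  obtain ⟨η, hη, hc, hz, hs⟩ := exists_eta_two (F := F) hL hθ₀ hq0
  have C' : Co X k F φ := C
  obtain ⟨θ, hθ, hv⟩ := exists_descend (cs := cs) (h := h) C' hkM le_rfl hη hz hs
  have hran : φ.range = MJ cs h X (Set.range k) := Cfsg.Agent.H622.Levi.Co.range C' hkM Nat.one_pos
  have hmem : ∀ x, φ x ∈ MJ cs h X (Set.range k) := fun x => hran ▸ ⟨x, rfl⟩
  refine ⟨θ, hθ, ?_⟩
  intro γ τ c hc0 hup hlo hinv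
  have h1 := eq_dirHom C'.ker hc0 hup hlo
  refine eq_one_of_inv hθ₀ hL hq0 hη hc τ (dg c hc0) (dirHom (dg c hc0) τ) (fun x => coe_dirHom _ τ x) ?_
  funext x
  have hm' : γ (φ x) ∈ MJ cs h X (Set.range k) := by rw [h1]; exact hmem _
  have h2 := hinv (φ x) (hmem x) hm'
  rw [hv x ⟨φ x, hmem x⟩ rfl, hv (dirHom (dg c hc0) τ x) ⟨γ (φ x), hm'⟩ (h1 x)] at h2
  exact h2

end node

end Cfsg.Agent.H804.Ext
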