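import Cfsg.Agent.H53.HC.Exc
import Cfsg.Agent.H804.Ext.Mackey
import Cfsg.Agent.H804.Ext.SLTwo

/-!
# Big characters with few invariant automorphisms (helper804, S4832)

* `Lies` : the restriction of a character of `M_J` to `M_N` is a multiple of `θN`;
* `Rigid` : an automorphism `β` fixing `χ` fixes `θN` up to an element permuting the simple roots of `J`;
* `big_of_one_aut`, `big_of_two_aut` : `H53.HC.big_of_one`, `H53.HC.big_of_two` with `Rigid`.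
-/

set_option autoImplicit false

open scoped ComplexConjugate
open Cfsg

namespace Cfsg.Agent.H804.Ext

open Cfsg.Agent.OddOrderCharacters.Clifford Cfsg.Agent.Characters Cfsg.Agent.H53.HC

section gen

open CoxeterSystem Cfsg.Agent.ChevalleyStructure.CoxeterGeom Cfsg.Agent.Tits.Roots Cfsg.Agent.Tits.Core
  Cfsg.Agent.Tits.Exchange Cfsg.Agent.Nodes.Reps Cfsg.Agent.Nodes.BNOf Cfsg.Agent.Nodes.StabComb
  Cfsg.Agent.Nodes.Bruhat Cfsg.Agent.Nodes.OppDec Cfsg.Agent.Nodes.LeviDec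

variable {I W Y : Type*} [Fintype I] [DecidableEq I] [Group W] [Group Y] {M : CoxeterMatrix I}
  {cs : CoxeterSystem M W} {A : I → I → ℤ} {h : IsCartan M A} {p : ℕ} {T : Subgroup Y} {n : I → Y}
  {X : (I → ℤ) → Subgroup Y}

/-- the restriction of `ψ` to `M_N` is a multiple of `θN` -/
def Lies {cs : CoxeterSystem M W} {h : IsCartan M A} {X : (I → ℤ) → Subgroup Y} {N J : Set I}
    (θN : ↥(MJ cs h X N) → ℂ) (ψ : ↥(MJ cs h X J) → ℂ) : Prop :=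
  MJ cs h X N ≤ MJ cs h X J ∧
    ∃ c : ℂ, c ≠ 0 ∧ ∀ (m : Y) (hm : m ∈ MJ cs h X N) (hm' : m ∈ MJ cs h X J), ψ ⟨m, hm'⟩ = c * θN ⟨m, hm⟩

theorem Lies.refl {N : Set I} (θN : ↥(MJ cs h X N) → ℂ) : Lies θN θN :=
  ⟨le_rfl, 1, one_ne_zero, fun _ _ _ => (one_mul _).symm⟩

theorem Lies.prod_left {N J K K' : Set I} {θN : ↥(MJ cs h X N) → ℂ} {θ : ↥(MJ cs h X K) → ℂ}
    {θ' : ↥(MJ cs h X K') → ℂ} [Finite Y] (hθ' : IsIrrCharacter _ θ') (hL : Lies θN θ)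
    {ψ : ↥(MJ cs h X J) → ℂ} (hψ : ∀ (a : Y) (ha : a ∈ MJ cs h X K) (b : Y) (hb : b ∈ MJ cs h X K'),
        ∃ hab : a * b ∈ MJ cs h X J, ψ ⟨a * b, hab⟩ = θ ⟨a, ha⟩ * θ' ⟨b, hb⟩) : Lies θN ψ := by
  obtain ⟨h1, c, hc, h2⟩ := hL
  refine ⟨fun m hm => ?_, c * θ' 1, mul_ne_zero hc (Core.isIrr_apply_one_ne_zero hθ'), fun m hm hm' => ?_⟩
  · obtain ⟨hab, -⟩ := hψ m (h1 hm) 1 (one_mem _)
    rwa [mul_one] at hab
  · obtain ⟨hab, e⟩ := hψ m (h1 hm) 1 (one_mem _)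
    simp only [mul_one] at e
    rw [e, h2 m hm]
    have : θ' ⟨1, one_mem _⟩ = θ' 1 := rfl
    rw [this]
    ring

theorem Lies.prod_right {N J K K' : Set I} {θN : ↥(MJ cs h X N) → ℂ} {θ : ↥(MJ cs h X K) → ℂ}
    {θ' : ↥(MJ cs h X K') → ℂ} [Finite Y] (hθ : IsIrrCharacter _ θ) (hL : Lies θN θ')
    {ψ : ↥(MJ cs h X J) → ℂ} (hψ : ∀ (a : Y) (ha : a ∈ MJ cs h X K) (b : Y) (hb : b ∈ MJ cs h X K'),
        ∃ hab : a * b ∈ MJ cs h X J, ψ ⟨a * b, hab⟩ = θ ⟨a, ha⟩ * θ' ⟨b, hb⟩) : Lies θN ψ := by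
  obtain ⟨h1, c, hc, h2⟩ := hL
  refine ⟨fun m hm => ?_, θ 1 * c, mul_ne_zero (Core.isIrr_apply_one_ne_zero hθ) hc, fun m hm hm' => ?_⟩
  · obtain ⟨hab, -⟩ := hψ 1 (one_mem _) m (h1 hm)
    rwa [one_mul] at hab
  · obtain ⟨hab, e⟩ := hψ 1 (one_mem _) m (h1 hm)
    simp only [one_mul] at e
    rw [e, h2 m hm]
    have : θ ⟨1, one_mem _⟩ = θ 1 := rfl
    rw [this]
    ring

/-- an automorphism `β` (preserving `T`, `M_J`, `V_J`) which fixes `χ` fixes `θN` up to an element permuting the simple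
roots of `J` -/
def Rigid (R : RGD cs h p T n X) (J : Set I) {N : Set I} (θN : ↥(MJ cs h X N) → ℂ) (χ : Y → ℂ) : Prop :=
  ∀ β : MulAut Y, Compat cs h T X J β → χ ∘ β = χ → ∃ w g, Rp cs R.nsys w g ∧ Perm cs h J w ∧
    (w = 1 ∨ w ∉ WJ cs J) ∧ ∀ (m : Y) (hm : m ∈ MJ cs h X N) (hm' : β (g⁻¹ * m * g) ∈ MJ cs h X N),
      θN ⟨β (g⁻¹ * m * g), hm'⟩ = θN ⟨m, hm⟩

/-- an element permuting the simple roots of `J` fixes the unique isolated node -/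
theorem fix_node [Finite W] {J : Set I} {i : I} (hi : i ∈ J) (hiso : ∀ c ∈ J, c ≠ i → M i c = 2)
    (hun : ∀ a ∈ J, (∀ c ∈ J, c ≠ a → M a c = 2) → a = i) {w : W} (hw : Perm cs h J w) :
    rep cs h w (sr i) = sr i := by
  obtain ⟨k, hk, e⟩ := hw.2 i hi
  have hinj : ∀ {i k : I}, (sr i : I → ℤ) = sr k → i = k := by
    intro i k hik
    by_contra hne
    have := congrFun hik i
    rw [sr_self, sr_ne hne] at this
    exact one_ne_zero this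
  have hki : k = i := by
    refine hun k hk fun c hc hck => ?_
    obtain ⟨d, hd, e'⟩ := hw.1 c hc
    have e'' : rep cs h w (sr d) = sr c := by rw [← e', rep_apply_inv]
    have hdi : d ≠ i := by
      rintro rfl
      exact hck (hinj (e''.symm.trans e))
    have h1 := cartan_rep e e''
    have h2 := (Cfsg.Agent.H35.ExcIdx.cartan_two h (hiso d hd hdi)).1
    rw [h2] at h1
    rcases h.rel k c hck.symm with ⟨h6, -⟩ | ⟨-, h6, -⟩ | ⟨-, ⟨h6, -⟩ | ⟨h6, -⟩⟩ | ⟨-, ⟨h6, -⟩ | ⟨h6, -⟩⟩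
    · exact h6
    all_goals omega
  rw [e, hki]

variable (R : RGD cs h p T n X)

include R

/-- the last step -/
theorem rigid_of [Finite W] [Finite Y] {J N : Set I} {θN : ↥(MJ cs h X N) → ℂ} {ψ : ↥(MJ cs h X J) → ℂ} (hL : Lies θN ψ)
    {χ : Y → ℂ} (hχ : ∀ β : MulAut Y, ∀ hβ : Compat cs h T X J β, χ ∘ β = χ → ∃ w g, ∃ hg : Rp cs R.nsys w g,
        ∃ hw : Perm cs h J w, (w = 1 ∨ w ∉ WJ cs J) ∧ ∀ (m : Y) (hm : m ∈ MJ cs h X J),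
          ψ ⟨β (g⁻¹ * m * g), (hβ.mj _).2 (conj_mem_MJ R hg hw hm)⟩ = ψ ⟨m, hm⟩) : Rigid R J θN χ := by
  intro β hβ hfix
  obtain ⟨w, g, hg, hw, h1, h2⟩ := hχ β hβ hfix
  obtain ⟨hle, c, hc, h3⟩ := hL
  refine ⟨w, g, hg, hw, h1, fun m hm hm' => ?_⟩
  have h4 := h2 m (hle hm)
  rw [h3 m hm, h3 _ hm'] at h4
  exact mul_left_cancel₀ hc h4

/-- **One component of type `A_2`.** -/
theorem exists_irr_one_aut [Finite W] [Fintype Y] (hG : GG cs h T X = ⊤) {J K K' : Set I} {j : I}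
    (hJ : ∀ i, i ∈ J ↔ i ≠ j) (hJK : J = K ∪ K') (ho : Orth A K K') {k₀ k₁ : I} (hK : K = {k₀, k₁})
    (hk : IsoPair A J k₀ k₁) (hk1 : A k₁ j = 0) (h3 : ¬ (3 : ℤ) ∣ A k₀ j)
    (hun : ∀ a b, IsoPair A J a b → (a = k₀ ∧ b = k₁) ∨ (a = k₁ ∧ b = k₀))
    {θ : ↥(MJ cs h X K) → ℂ} (hθ : Cusp cs h X K θ) (hns : NonSwap cs h X K k₀ k₁ θ)
    {θ' : ↥(MJ cs h X K') → ℂ} (hθ' : Cusp cs h X K' θ') {N : Set I} {θN : ↥(MJ cs h X N) → ℂ} (hL : Lies θN θ') :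
    ∃ χ : Y → ℂ, IsIrrCharacter Y χ ∧ (∃ k : ℕ, 0 < k ∧ χ 1 = (PJ cs h T X J).index * (k * (θ 1 * θ' 1))) ∧
      Rigid R J θN χ := by
  subst hJK
  obtain ⟨ψ, hψ, hval⟩ := hθ.exists_prod R ho hθ'
  have hval1 : ψ 1 = θ 1 * θ' 1 := by
    obtain ⟨hab, e⟩ := hval 1 (one_mem _) 1 (one_mem _)
    simp only [mul_one] at e
    exact e
  rw [← hval1]
  obtain ⟨χ, h1, h2, h3'⟩ := exists_irr_MJ_aut R hG (K ∪ K') hψ.irr hψ.van (by
    intro w g hg hw hp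
    obtain ⟨h0, h1⟩ := swap_of_iso hJ hk hk1 h3 hun hp hw
    exact not_stable_swap R rfl ho hK hns hθ'.irr hval hg hp h0 h1)
  exact ⟨χ, h1, h2, rigid_of R (Lies.prod_right hθ.irr hL hval) h3'⟩

/-- **Two components of type `A_2`.** -/
theorem exists_irr_two_aut [Finite W] [Fintype Y] (hG : GG cs h T X = ⊤) {J K L N : Set I} {j : I}
    (hJ : ∀ i, i ∈ J ↔ i ≠ j) (hJK : J = K ∪ (L ∪ N)) (hoK : Orth A K (L ∪ N)) (hoL : Orth A L N) {k₀ k₁ l₀ l₁ : I}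
    (hK : K = {k₀, k₁}) (hLs : L = {l₀, l₁}) (hk : IsoPair A J k₀ k₁) (hl : IsoPair A J l₀ l₁)
    (hk1 : A k₁ j = 0) (hl1 : A l₁ j = 0) (h3 : ¬ (3 : ℤ) ∣ A k₀ j) (hkl : A l₀ j = A k₀ j)
    (hun : ∀ a b, IsoPair A J a b → (a = k₀ ∧ b = k₁) ∨ (a = k₁ ∧ b = k₀) ∨ (a = l₀ ∧ b = l₁) ∨ (a = l₁ ∧ b = l₀))
    {θ : ↥(MJ cs h X K) → ℂ} (hθ : Cusp cs h X K θ) (hns : NonSwap cs h X K k₀ k₁ θ)
    {α α' : ↥(MJ cs h X L) → ℂ} (hα : Cusp cs h X L α) (hα' : Cusp cs h X L α')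
    (hne : ∀ t (ht : t ∈ T), α' ≠ α ∘ conjME (MJ cs h X L) (T_le_normalizer_MJ R L ht))
    {β : ↥(MJ cs h X N) → ℂ} (hβ : Cusp cs h X N β) :
    ∃ χ : Y → ℂ, IsIrrCharacter Y χ ∧ (∃ k : ℕ, 0 < k ∧ χ 1 = (PJ cs h T X J).index * (k * θ 1)) ∧ Rigid R J β χ := by
  classical
  subst hJK
  -- the set of pairs to be avoided
  let Bad : (↥(MJ cs h X L) → ℂ) → Prop := fun γ => ∃ (w : W) (g : Y) (_ : Rp cs R.nsys w g)
    (_ : Perm cs h (K ∪ (L ∪ N)) w) (_ : w ∉ WJ cs (K ∪ (L ∪ N))) (hm : ∀ m ∈ MJ cs h X L, g⁻¹ * m * g ∈ MJ cs h X K)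
    (c : ℂ), ∀ m : MJ cs h X L, γ m = c * θ ⟨g⁻¹ * m * g, hm m m.2⟩
  obtain ⟨γ, hγ, hbad⟩ : ∃ γ : ↥(MJ cs h X L) → ℂ, Cusp cs h X L γ ∧ ¬ Bad γ := by
    by_contra hcon
    push Not at hcon
    obtain ⟨w, g, hg, hw, hwJ, hm, c, e⟩ := hcon α hα
    obtain ⟨w', g', hg', hw', hwJ', hm', c', e'⟩ := hcon α' hα'
    have ht := fix_of_two R hJ hw hwJ hw' hwJ' hg hg'
    refine hne _ ht ?_
    have hc0 : c ≠ 0 := by
      rintro rfl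
      apply Core.isIrr_ne_zero hα.irr
      funext m
      rw [e, zero_mul]; rfl
    refine eq_of_smul (c := c' * c⁻¹) hα'.irr
      (Core.isIrr_comp (conjME _ (T_le_normalizer_MJ R L ht)).toMonoidHom (MulEquiv.surjective _) hα.irr) fun m => ?_
    change α' m = c' * c⁻¹ * α (conjME _ (T_le_normalizer_MJ R L ht) m)
    rw [e', e]
    have e1 : (⟨g⁻¹ * (conjME (MJ cs h X L) (T_le_normalizer_MJ R L ht) m : Y) * g,
        hm _ (conjME (MJ cs h X L) (T_le_normalizer_MJ R L ht) m).2⟩ : MJ cs h X K) = ⟨g'⁻¹ * m * g', hm' m m.2⟩ := by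
      apply Subtype.ext
      simp only [conjME_coe]
      group
    rw [e1]
    field_simp
  obtain ⟨δ, hδ, hδval⟩ := hγ.exists_prod R hoL hβ
  obtain ⟨ψ, hψ, hval⟩ := hθ.exists_prod R hoK hδ
  have hval1 : ψ 1 = θ 1 * δ 1 := by
    obtain ⟨hab, e⟩ := hval 1 (one_mem _) 1 (one_mem _)
    simp only [mul_one] at e
    exact e
  obtain ⟨χ, hχ, ⟨k, hk0, hχ1⟩, hχ2⟩ := exists_irr_MJ_aut R hG (K ∪ (L ∪ N)) hψ.irr hψ.van (by
    intro w g hg hw hp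
    rcases swap_or hJ hk hl hk1 hl1 h3 hkl hun hp hw with ⟨h0, h1⟩ | ⟨h0, h1⟩
    · exact not_stable_swap R rfl hoK hK hns hδ.irr hval hg hp h0 h1
    · by_contra hcon
      push Not at hcon
      apply hbad
      have hm : ∀ m ∈ MJ cs h X L, g⁻¹ * m * g ∈ MJ cs h X K := by
        intro m hm
        refine conj_mem_Sup' R hg (S := RootsJ cs h L) (S' := RootsJ cs h K) (fun x hx => hx.1) ?_ hm
        intro x hx
        refine ⟨hx.1.act _, fun k hkK => ?_⟩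
        rw [eq_sum_sr x, map_sum, Finset.sum_apply]
        refine Finset.sum_eq_zero fun i _ => ?_
        rw [map_smul, Pi.smul_apply]
        by_cases hi : i ∈ L
        · rw [hLs] at hi
          have hk' : k ≠ k₀ ∧ k ≠ k₁ := by
            constructor <;> rintro rfl <;> exact hkK (by rw [hK]; simp)
          rcases hi with rfl | rfl
          · rw [← h1, rep_inv_apply, sr_ne hk'.2, smul_zero]
          · rw [← h0, rep_inv_apply, sr_ne hk'.1, smul_zero]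
        · rw [hx.2 i hi, zero_smul]
      have hKle : MJ cs h X K ≤ MJ cs h X (K ∪ (L ∪ N)) := by
        rw [hoK.MJ_union]; exact le_sup_left
      have hLNle : MJ cs h X (L ∪ N) ≤ MJ cs h X (K ∪ (L ∪ N)) := by
        rw [hoK.MJ_union]; exact le_sup_right
      have hLle : MJ cs h X L ≤ MJ cs h X (L ∪ N) := by
        rw [hoL.MJ_union]; exact le_sup_left
      refine ⟨w, g, hg, hp, hw, hm, δ 1 / (θ 1 * β 1), fun m => ?_⟩
      have h2 := hcon m (hLNle (hLle m.2))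
      obtain ⟨hab1, e1⟩ := hval (g⁻¹ * m * g) (hm m m.2) 1 (one_mem _)
      obtain ⟨hab2, e2⟩ := hval 1 (one_mem _) m (hLle m.2)
      obtain ⟨hab3, e3⟩ := hδval m m.2 1 (one_mem _)
      simp only [mul_one] at e1
      simp only [one_mul] at e2
      simp only [mul_one] at e3
      have e4 : θ ⟨g⁻¹ * m * g, hm m m.2⟩ * δ 1 = θ 1 * (γ m * β 1) :=
        (e1.symm.trans h2).trans (e2.trans (congrArg (θ 1 * ·) e3))
      have hθ1 := Core.isIrr_apply_one_ne_zero hθ.irr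
      have hβ1 := Core.isIrr_apply_one_ne_zero hβ.irr
      field_simp
      rw [mul_comm (δ 1), e4]
      ring)
  obtain ⟨d, hd0, hd⟩ := Core.isIrr_apply_one hδ.irr
  refine ⟨χ, hχ, ⟨k * d, Nat.mul_pos hk0 hd0, ?_⟩, ?_⟩
  · rw [hχ1, hval1, hd]
    push_cast
    ring
  · exact rigid_of R (Lies.prod_right hθ.irr (Lies.prod_right hγ.irr (Lies.refl β) hδval) hval) hχ2

end gen

section exc

open CoxeterSystem Cfsg.Agent.ChevalleyStructure.CoxeterGeom Cfsg.Agent.Tits.Roots Cfsg.Agent.Tits.Core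
  Cfsg.Agent.Tits.Exchange Cfsg.Agent.Nodes.Reps Cfsg.Agent.Nodes.BNOf Cfsg.Agent.Nodes.StabComb
  Cfsg.Agent.Nodes.Bruhat Cfsg.Agent.Nodes.OppDec Cfsg.Agent.Nodes.LeviDec Cfsg.Agent.H35.ExcIdx

variable {r q l : ℕ} {M : CoxeterMatrix (Fin l)} {A : Fin l → Fin l → ℤ} {h : IsCartan M A} {f : Fin l → ℕ}
  {S : Type*} [Group S] {T : Subgroup S} {n : Fin l → S} {X : (Fin l → ℤ) → Subgroup S}

/-- **`F₄(q)`, `²E₆(q)`, `E₇(q)`, `E₈(q)`.** -/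
theorem big_of_one_aut [Finite S] (hr : r.Prime) (hq : 2 ≤ q) {j k₀ k₁ : Fin l} {K' : Set (Fin l)}
    (D : ExcData r q h f {i | i ≠ j} T n X) (hJ : ({i | i ≠ j} : Set (Fin l)) = {k₀, k₁} ∪ K')
    (ho : ∀ i ∈ ({k₀, k₁} : Set (Fin l)), ∀ i' ∈ K', M i i' = 2) (hk : M k₀ k₁ = 3) (hk1 : M k₁ j = 2)
    (hk0 : M k₀ j = 3 ∨ M k₀ j = 4)
    (hun : ∀ a b, a ≠ j → b ≠ j → M a b = 3 → (∀ c, c ≠ j → c ≠ a → c ≠ b → M a c = 2 ∧ M b c = 2) →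
      (a = k₀ ∧ b = k₁) ∨ (a = k₁ ∧ b = k₀))
    (hA2 : InA2 h X q k₀ k₁) {θ' : ↥(MJ M.toCoxeterSystem h X K') → ℂ} (hθ' : Cusp M.toCoxeterSystem h X K' θ')
    {N : Set (Fin l)} {θN : ↥(MJ M.toCoxeterSystem h X N) → ℂ} (hL : Lies θN θ') :
    ∃ χ : S → ℂ, IsIrrCharacter S χ ∧ (∃ N : ℕ, χ 1 = N ∧ (∀ ℓ : ℕ, ℓ.Prime → ℓ ∣ Nat.card S → ℓ ≠ r → ℓ ∣ N)) ∧
      Rigid D.rgd {i | i ≠ j} θN χ := by
  classical
  have := D.fin
  have : Fintype S := Fintype.ofFinite S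
  obtain ⟨θ, hθ, hns, d, t, hd, hdt, ht⟩ := hA2
  have hmem : ∀ i, i ∈ ({i | i ≠ j} : Set (Fin l)) ↔ i ≠ j := fun i => Iff.rfl
  have hk0J : k₀ ∈ ({i | i ≠ j} : Set (Fin l)) := by rw [hJ]; simp
  have hk1J : k₁ ∈ ({i | i ≠ j} : Set (Fin l)) := by rw [hJ]; simp
  obtain ⟨χ, hχ, ⟨k, hk0', hχ1⟩, hrig⟩ := exists_irr_one_aut D.rgd D.gg hmem hJ (orth_of h ho) rfl
    (isoPair_of h hk0J hk1J hk fun c hc hc0 hc1 => by
      rw [hJ] at hc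
      rcases hc with hc | hc
      · rcases hc with rfl | rfl
        · exact absurd rfl hc0
        · exact absurd rfl hc1
      · exact ⟨ho _ (by simp) c hc, ho _ (by simp) c hc⟩)
    (cartan_two h hk1).1 (not_three_dvd h hk0)
    (fun a b hab => by
      obtain ⟨h1, h2, h3, h4⟩ := of_isoPair h hab
      exact hun a b h1 h2 h3 h4)
    hθ hns hθ' hL
  obtain ⟨e, -, he⟩ := Cfsg.Agent.Characters.Core.isIrr_apply_one hθ'.irr
  refine ⟨χ, hχ, ⟨(PJ M.toCoxeterSystem h T X {i | i ≠ j}).index * (k * (d * e)), ?_, ?_⟩, hrig⟩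
  · rw [hχ1, hd, he]; push_cast; ring
  · intro ℓ hℓ h1 h2
    by_cases h3 : ℓ ∣ q - 1
    · have h4 := dvd_of_mul_eq hℓ hq h3 ht hdt
      exact Dvd.dvd.mul_left (Dvd.dvd.mul_left (Dvd.dvd.mul_right h4 _) _) _
    · exact Dvd.dvd.mul_right (D.idx ℓ hℓ h1 (fun h4 => h2 ((Nat.prime_dvd_prime_iff_eq hℓ hr).1 h4)) h3) _

/-- **`E₆(q)`.** -/
theorem big_of_two_aut [Finite S] (hr : r.Prime) (hq : 2 ≤ q) {j k₀ k₁ l₀ l₁ : Fin l} {N : Set (Fin l)}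
    (D : ExcData r q h f {i | i ≠ j} T n X) (hJ : ({i | i ≠ j} : Set (Fin l)) = {k₀, k₁} ∪ ({l₀, l₁} ∪ N))
    (hoK : ∀ i ∈ ({k₀, k₁} : Set (Fin l)), ∀ i' ∈ ({l₀, l₁} ∪ N : Set (Fin l)), M i i' = 2)
    (hoL : ∀ i ∈ ({l₀, l₁} : Set (Fin l)), ∀ i' ∈ N, M i i' = 2)
    (hk : M k₀ k₁ = 3) (hk1 : M k₁ j = 2) (hk0 : M k₀ j = 3) (hl : M l₀ l₁ = 3) (hl1 : M l₁ j = 2) (hl0 : M l₀ j = 3)
    (hun : ∀ a b, a ≠ j → b ≠ j → M a b = 3 → (∀ c, c ≠ j → c ≠ a → c ≠ b → M a c = 2 ∧ M b c = 2) →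
      (a = k₀ ∧ b = k₁) ∨ (a = k₁ ∧ b = k₀) ∨ (a = l₀ ∧ b = l₁) ∨ (a = l₁ ∧ b = l₀))
    (hA2 : InA2 h X q k₀ k₁)
    (hL : ∃ α α' : ↥(MJ M.toCoxeterSystem h X {l₀, l₁}) → ℂ, Cusp M.toCoxeterSystem h X {l₀, l₁} α ∧
      Cusp M.toCoxeterSystem h X {l₀, l₁} α' ∧
      ∀ t (ht : t ∈ T), α' ≠ α ∘ conjME (MJ M.toCoxeterSystem h X {l₀, l₁}) (T_le_normalizer_MJ D.rgd {l₀, l₁} ht))
    {β : ↥(MJ M.toCoxeterSystem h X N) → ℂ} (hβ : Cusp M.toCoxeterSystem h X N β) :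
    ∃ χ : S → ℂ, IsIrrCharacter S χ ∧ (∃ N : ℕ, χ 1 = N ∧ (∀ ℓ : ℕ, ℓ.Prime → ℓ ∣ Nat.card S → ℓ ≠ r → ℓ ∣ N)) ∧
      Rigid D.rgd {i | i ≠ j} β χ := by
  classical
  have := D.fin
  have : Fintype S := Fintype.ofFinite S
  obtain ⟨θ, hθ, hns, d, t, hd, hdt, ht⟩ := hA2
  obtain ⟨α, α', hα, hα', hne⟩ := hL
  have hmem : ∀ i, i ∈ ({i | i ≠ j} : Set (Fin l)) ↔ i ≠ j := fun i => Iff.rfl
  have hk0J : k₀ ∈ ({i | i ≠ j} : Set (Fin l)) := by rw [hJ]; simp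
  have hk1J : k₁ ∈ ({i | i ≠ j} : Set (Fin l)) := by rw [hJ]; simp
  have hl0J : l₀ ∈ ({i | i ≠ j} : Set (Fin l)) := by rw [hJ]; simp
  have hl1J : l₁ ∈ ({i | i ≠ j} : Set (Fin l)) := by rw [hJ]; simp
  obtain ⟨χ, hχ, ⟨k, hk0', hχ1⟩, hrig⟩ := exists_irr_two_aut D.rgd D.gg hmem hJ (orth_of h hoK) (orth_of h hoL) rfl rfl
    (isoPair_of h hk0J hk1J hk fun c hc hc0 hc1 => by
      rw [hJ] at hc
      rcases hc with hc | hc
      · rcases hc with rfl | rfl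
        · exact absurd rfl hc0
        · exact absurd rfl hc1
      · exact ⟨hoK _ (by simp) c hc, hoK _ (by simp) c hc⟩)
    (isoPair_of h hl0J hl1J hl fun c hc hc0 hc1 => by
      rw [hJ] at hc
      rcases hc with hc | hc | hc
      · have e1 := hoK c hc l₀ (by simp)
        have e2 := hoK c hc l₁ (by simp)
        rw [M.symmetric] at e1 e2
        exact ⟨e1, e2⟩
      · rcases hc with rfl | rfl
        · exact absurd rfl hc0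
        · exact absurd rfl hc1
      · exact ⟨hoL _ (by simp) c hc, hoL _ (by simp) c hc⟩)
    (cartan_two h hk1).1 (cartan_two h hl1).1 (not_three_dvd h (Or.inl hk0))
    ((cartan_three h hl0).1.trans (cartan_three h hk0).1.symm)
    (fun a b hab => by
      obtain ⟨h1, h2, h3, h4⟩ := of_isoPair h hab
      exact hun a b h1 h2 h3 h4)
    hθ hns hα hα' hne hβ
  refine ⟨χ, hχ, ⟨(PJ M.toCoxeterSystem h T X {i | i ≠ j}).index * (k * d), ?_, ?_⟩, hrig⟩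
  · rw [hχ1, hd]; push_cast; ring
  · intro ℓ hℓ h1 h2
    by_cases h3 : ℓ ∣ q - 1
    · have h4 := dvd_of_mul_eq hℓ hq h3 ht hdt
      exact Dvd.dvd.mul_left (Dvd.dvd.mul_left h4 _) _
    · exact Dvd.dvd.mul_right (D.idx ℓ hℓ h1 (fun h4 => h2 ((Nat.prime_dvd_prime_iff_eq hℓ hr).1 h4)) h3) _

end exc

end Cfsg.Agent.H804.Ext
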