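import Cfsg.Agent.H804.Ext.Frame

/-!
# Coordinates of a rank one group (helper804, S4832)

`ker_le_center`, `co_of` : a homomorphism `SL_2(F) → Y` onto the root groups of a node has central kernel.
-/

set_option autoImplicit false
set_option linter.unusedSectionVars false

open Cfsg

namespace Cfsg.Agent.H804.Ext

open Matrix Cfsg.Agent.ChevalleyStructure.SL2Hom

section

variable {F : Type*} [Field F] {Y : Type*} [Group Y] {φ : SpecialLinearGroup (Fin 2) F →* Y}

theorem up_add (a b : F) : up a * up b = up (a + b) := by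
  apply Subtype.ext
  change !![1, a; 0, 1] * !![1, b; 0, 1] = !![1, a + b; 0, 1]
  ext i j
  fin_cases i <;> fin_cases j <;> simp [Matrix.mul_apply, Fin.sum_univ_two, add_comm]

theorem up_zero : up (0 : F) = 1 := by
  apply Subtype.ext
  change !![1, 0; 0, 1] = (1 : Matrix (Fin 2) (Fin 2) F)
  exact Matrix.one_fin_two.symm

theorem eq_up_mul {g : SpecialLinearGroup (Fin 2) F} (hc : g.1 1 0 ≠ 0) :
    g = up (g.1 0 0 / g.1 1 0) * (up (-(g.1 1 0)⁻¹) * lo (g.1 1 0) * up (-(g.1 1 0)⁻¹)) * up (g.1 1 1 / g.1 1 0) := by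
  apply Subtype.ext
  have hdet := g.2
  rw [Matrix.det_fin_two] at hdet
  change g.1 = !![1, g.1 0 0 / g.1 1 0; 0, 1] * (!![1, -(g.1 1 0)⁻¹; 0, 1] * !![1, 0; g.1 1 0, 1] *
    !![1, -(g.1 1 0)⁻¹; 0, 1]) * !![1, g.1 1 1 / g.1 1 0; 0, 1]
  set a := g.1 0 0
  set b := g.1 0 1
  set c := g.1 1 0
  set d := g.1 1 1
  have h1 : g.1 = !![a, b; c, d] := Matrix.eta_fin_two g.1
  have h2 : b = (a * d - 1) / c := by
    field_simp
    linear_combination -hdet
  rw [h1, h2]
  ext i j
  fin_cases i <;> fin_cases j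
  all_goals simp [Matrix.mul_apply, Fin.sum_univ_two, hc]
  all_goals try field_simp
  all_goals try ring

theorem nup' (c : F) (hc : c ≠ 0) : (up (-c⁻¹) * lo c * up (-c⁻¹)) * up 1 = lo (-(c * c)) * (up (-c⁻¹) * lo c * up (-c⁻¹)) := by
  have h1 := nup (-c⁻¹) (neg_ne_zero.2 (inv_ne_zero hc))
  have e0 : -(-c⁻¹)⁻¹ = c := by rw [inv_neg, inv_inv, neg_neg]
  have e0' : (-c⁻¹)⁻¹ = -c := by rw [inv_neg, inv_inv]
  rw [e0, e0', neg_mul_neg] at h1
  exact h1

/-- the kernel is central -/
theorem ker_le_center (hinj : Function.Injective fun a : F => φ (up a)) {P Q : Subgroup Y}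
    (hP : ∀ a, φ (up a) ∈ P) (hQ : ∀ b, φ (lo b) ∈ Q) (hPQ : P ⊓ Q = ⊥) :
    φ.ker ≤ Subgroup.center (SpecialLinearGroup (Fin 2) F) := by
  have hup : ∀ a : F, up a ∈ φ.ker → a = 0 := by
    intro a ha
    apply hinj
    change φ (up a) = φ (up 0)
    rw [MonoidHom.mem_ker.1 ha, up_zero, map_one]
  intro g hg
  by_cases hc : g.1 1 0 = 0
  · -- upper triangular
    have hdet := g.2
    rw [Matrix.det_fin_two, hc, mul_zero, sub_zero] at hdet
    have ha0 : g.1 0 0 ≠ 0 := left_ne_zero_of_mul_eq_one hdet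
    have hd : g.1 1 1 = (g.1 0 0)⁻¹ := eq_inv_of_mul_eq_one_right hdet
    have h1 : g.1 = !![g.1 0 0, g.1 0 1; 0, (g.1 0 0)⁻¹] := by
      conv_lhs => rw [Matrix.eta_fin_two g.1, hc, hd]
    set a := g.1 0 0
    set b := g.1 0 1
    have h2 : g * up 1 * g⁻¹ * up (-1) ∈ φ.ker := by
      have h3 : g * up 1 * g⁻¹ * up (-1) = g * (up 1 * g⁻¹ * (up 1)⁻¹) := by
        have h4 : (up (1 : F))⁻¹ = up (-1) := by
          rw [inv_eq_iff_mul_eq_one, up_add, add_neg_cancel, up_zero]
        rw [h4]; group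
      rw [h3]
      exact mul_mem hg ((MonoidHom.normal_ker φ).conj_mem _ (inv_mem hg) _)
    have h3 : g * up 1 * g⁻¹ * up (-1) = up (a ^ 2 - 1) := by
      have h4 : g * up 1 = up (a ^ 2) * g := by
        apply Subtype.ext
        change g.1 * !![1, 1; 0, 1] = !![1, a ^ 2; 0, 1] * g.1
        rw [h1]
        ext i j
        fin_cases i <;> fin_cases j
        all_goals simp [Matrix.mul_apply, Fin.sum_univ_two]
        all_goals try field_simp
        all_goals try ring
      rw [h4, mul_inv_cancel_right, up_add, sub_eq_add_neg]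
    rw [h3] at h2
    have ha : a ^ 2 = 1 := sub_eq_zero.1 (hup _ h2)
    have ha' : a⁻¹ = a := by
      rw [inv_eq_iff_eq_inv, eq_comm]
      exact inv_eq_of_mul_eq_one_left (by rw [← sq, ha])
    have h4 : g * g = up (2 * (a * b)) := by
      apply Subtype.ext
      change g.1 * g.1 = !![1, 2 * (a * b); 0, 1]
      rw [h1, ha']
      ext i j
      fin_cases i <;> fin_cases j
      all_goals simp [Matrix.mul_apply, Fin.sum_univ_two]
      all_goals try linear_combination ha
      all_goals try ring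
    have h5 : 2 * (a * b) = 0 := hup _ (by rw [← h4]; exact mul_mem hg hg)
    have hb : b = 0 := by
      by_cases h2 : (2 : F) = 0
      · have ha1 : a = 1 := by
          have : (a - 1) * (a - 1) = 0 := by linear_combination ha - (a - 1) * h2
          exact sub_eq_zero.1 (mul_self_eq_zero.1 this)
        have h6 : g = up b := by
          apply Subtype.ext
          change g.1 = !![1, b; 0, 1]
          rw [h1, ha', ha1]
        exact hup b (by rw [← h6]; exact hg)
      · rcases mul_eq_zero.1 h5 with h6 | h6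
        · exact absurd h6 h2
        · exact (mul_eq_zero.1 h6).resolve_left ha0
    rw [Matrix.SpecialLinearGroup.mem_center_iff]
    refine ⟨a, by rw [Fintype.card_fin, ha], ?_⟩
    rw [h1, ha', hb]
    ext i j
    fin_cases i <;> fin_cases j <;> simp
  · exfalso
    have h1 := eq_up_mul hc
    generalize g.1 1 0 = c at h1 hc
    generalize g.1 0 0 = a at h1
    generalize g.1 1 1 = d at h1
    have h2 : φ (up (-c⁻¹) * lo c * up (-c⁻¹)) = φ (up (-(a / c) + -(d / c))) := by
      have h3 : φ g = 1 := hg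
      rw [h1, map_mul, map_mul] at h3
      have h4 : φ (up (a / c)) * φ (up (-(a / c))) = 1 := by
        rw [← map_mul, up_add, add_neg_cancel, up_zero, map_one]
      have h5 : φ (up (-(d / c))) * φ (up (d / c)) = 1 := by
        rw [← map_mul, up_add, neg_add_cancel, up_zero, map_one]
      have h6 : φ (up (a / c)) = (φ (up (-(a / c))))⁻¹ := eq_inv_of_mul_eq_one_left h4
      have h7 : φ (up (d / c)) = (φ (up (-(d / c))))⁻¹ := eq_inv_of_mul_eq_one_right h5
      rw [h6, h7] at h3
      rw [← up_add, map_mul φ (up (-(a / c)))]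
      have h8 := mul_inv_eq_one.1 h3
      rw [← h8]; group
    have h3 := congrArg φ (nup' c hc)
    rw [map_mul, map_mul φ (lo _), h2, ← map_mul, up_add] at h3
    have h4 : φ (lo (-(c * c))) = φ (up 1) := by
      have h5 : φ (up (-(a / c) + -(d / c) + 1)) = φ (up 1) * φ (up (-(a / c) + -(d / c))) := by
        rw [← map_mul, up_add]
        congr 2
        ring
      rw [h5] at h3
      exact (mul_right_cancel h3).symm
    have h5 : φ (up 1) ∈ P ⊓ Q := ⟨hP 1, by rw [← h4]; exact hQ _⟩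
    rw [hPQ, Subgroup.mem_bot] at h5
    exact one_ne_zero (hup 1 h5)

end

section node

open CoxeterSystem Cfsg.Agent.ChevalleyStructure.CoxeterGeom Cfsg.Agent.Tits.Roots Cfsg.Agent.Tits.Core
  Cfsg.Agent.Nodes.Reps Cfsg.Agent.Nodes.BNOf Cfsg.Agent.Nodes.RootsA Cfsg.Agent.Nodes.OppDec
open Cfsg.Agent.H622.Levi (Co cr cr_succ cr_neg)

variable {I W Y : Type*} [Fintype I] [DecidableEq I] [Group W] [Group Y] {M : CoxeterMatrix I}
  {cs : CoxeterSystem M W} {A : I → I → ℤ} {h : IsCartan M A} {p : ℕ} {T : Subgroup Y} {n : I → Y}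
  {X : (I → ℤ) → Subgroup Y}

/-- **Coordinates for a node.** -/
theorem co_of [Finite W] (R : RGD cs h p T n X) {i : I} {F : Type} [Field F]
    {φ : SpecialLinearGroup (Fin 2) F →* Y} (hup : ∀ y, y ∈ X (sr i) ↔ ∃ a, φ (up a) = y)
    (hinj : Function.Injective fun a : F => φ (up a)) (hlo : ∀ y, y ∈ X (-sr i) ↔ ∃ b, φ (lo b) = y) :
    Co X (fun _ : Fin 1 => i) F φ := by
  have e01 : cr (fun _ : Fin 1 => i) 0 1 = sr i := cr_succ (fun _ : Fin 1 => i) 0
  have e10 : cr (fun _ : Fin 1 => i) 1 0 = -sr i := by rw [← e01, cr_neg]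
  refine ⟨fun a b hab => ?_, ?_⟩
  · fin_cases a <;> fin_cases b
    · exact absurd rfl hab
    · change (X (cr (fun _ : Fin 1 => i) 0 1) : Set Y) = Set.range fun t => φ (SpecialLinearGroup.transvection hab t)
      rw [e01]
      ext y
      rw [SetLike.mem_coe, hup, Set.mem_range]
      simp only [tr_up]
    · change (X (cr (fun _ : Fin 1 => i) 1 0) : Set Y) = Set.range fun t => φ (SpecialLinearGroup.transvection hab t)
      rw [e10]
      ext y
      rw [SetLike.mem_coe, hlo, Set.mem_range]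
      simp only [tr_lo]
    · exact absurd rfl hab
  · refine ker_le_center hinj (P := X (sr i)) (Q := X (-sr i)) (fun a => (hup _).2 ⟨a, rfl⟩)
      (fun b => (hlo _).2 ⟨b, rfl⟩) (X_inf_X R (isRoot_sr cs h i) (isRoot_sr cs h i).neg ?_)
    intro e
    have h1 := congrFun e i
    rw [Pi.neg_apply, sr_self] at h1
    omega

end node

end Cfsg.Agent.H804.Ext
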