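import Cfsg.Agent.H67.ExtBase
import Cfsg.Agent.H525.ExtMult
import Cfsg.Agent.H69.OutCount
import Cfsg.Agent.KFacts.RgdTau
import Cfsg.Agent.H804.Ext.Big

/-!
# Stabilisers without field automorphisms (helper804, S4832)

* `exists_fieldHom` : a homomorphism `Aut Y → Γ` from a relation on the frame automorphisms;
* `sylCycIn_of_hom` : the subgroups mapping to a small subgroup of `Γ` satisfy `SylCycIn`;
* `Compat.of_diag` : the frame automorphisms preserve `T`, `M_J`, `V_J`;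
* `tau_of_rigid` : an automorphism fixing `χ` has trivial field automorphism (`Coords`);
* `hasExt_of_rigid` : the conclusion of S4832.
-/

set_option autoImplicit false
set_option linter.unusedSectionVars false

open scoped ComplexConjugate
open Cfsg

namespace Cfsg.Agent.H804.Ext

universe u v

open Cfsg.Agent.H576.Ext

/-! ### abstract groups -/

section abs

variable {Y : Type u} [Group Y] {Γ : Type v} [Group Γ]

/-- **The field automorphism of an automorphism.** -/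
theorem exists_fieldHom {Rel : MulAut Y → Γ → Prop} (hex : ∀ α : MulAut Y, ∃ g τ, Rel (MulAut.conj g * α) τ)
    (hinner : ∀ g τ, Rel (MulAut.conj g) τ → τ = 1)
    (hmul : ∀ α β σ τ, Rel α σ → Rel β τ → Rel (α * β) (σ * τ)) (hinv : ∀ α τ, Rel α τ → Rel α⁻¹ τ⁻¹) :
    ∃ f : MulAut Y →* Γ, (∀ g, f (MulAut.conj g) = 1) ∧ ∀ β τ, Rel β τ → f β = τ := by
  have huniq : ∀ (α : MulAut Y) (g g' : Y) (τ τ' : Γ), Rel (MulAut.conj g * α) τ → Rel (MulAut.conj g' * α) τ' →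
      τ' = τ := by
    intro α g g' τ τ' h h'
    have h1 := hmul _ _ _ _ h' (hinv _ _ h)
    have e : MulAut.conj g' * α * (MulAut.conj g * α)⁻¹ = MulAut.conj (g' * g⁻¹) := by
      rw [map_mul, map_inv]; group
    rw [e] at h1
    exact mul_inv_eq_one.1 (hinner _ _ h1)
  choose g t hgt using hex
  have hconj : ∀ (α : MulAut Y) (s : Y), α * MulAut.conj s = MulAut.conj (α s) * α := by
    intro α s
    ext x
    simp [MulAut.conj_apply]
  let f : MulAut Y →* Γ := MonoidHom.mk' t fun α β => by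
    refine huniq (α * β) (g α * α (g β)) (g (α * β)) _ _ ?_ (hgt (α * β))
    have h1 := hmul _ _ _ _ (hgt α) (hgt β)
    have e : MulAut.conj (g α) * α * (MulAut.conj (g β) * β) = MulAut.conj (g α * α (g β)) * (α * β) := by
      rw [map_mul, mul_assoc, ← mul_assoc α, hconj]; group
    rwa [e] at h1
  have hf : ∀ β τ, Rel β τ → f β = τ := fun β τ h => huniq β 1 (g β) _ _ (by rwa [map_one, one_mul]) (hgt β)
  refine ⟨f, fun x => ?_, hf⟩
  have h1 := hgt (MulAut.conj x)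
  rw [← map_mul] at h1
  exact hinner _ _ h1

/-- **Small images.** -/
theorem sylCycIn_of_hom [Finite Y] [Finite Γ] {f : MulAut Y →* Γ} (hf : Function.Surjective f)
    (hI : ∀ g, f (MulAut.conj g) = 1) {A : Subgroup (MulAut Y)} {Γ0 : Subgroup Γ} (hA : ∀ α ∈ A, f α ∈ Γ0) {m : ℕ}
    (hcard : Nat.card (Cfsg.Out Y) = m * Nat.card Γ) (hsq : Squarefree (m * Nat.card Γ0)) : SylCycIn A := by
  have hfin : Finite (MulAut Y) := inferInstance
  set E : Subgroup (MulAut Y) := Γ0.comap f with hE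
  have hIE : Cfsg.Inn Y ≤ E := by
    rintro _ ⟨g, rfl⟩
    rw [hE, Subgroup.mem_comap, hI]
    exact one_mem _
  have h1 := Subgroup.relIndex_mul_index hIE
  have h2 : E.index = Γ0.index := Subgroup.index_comap_of_surjective Γ0 hf
  have h3 : (Cfsg.Inn Y).index = Nat.card (Cfsg.Out Y) := rfl
  have h4 := Subgroup.card_mul_index Γ0
  have h5 : 0 < Γ0.index := Nat.pos_of_ne_zero Subgroup.index_ne_zero_of_finite
  have h6 : (Cfsg.Inn Y).relIndex E = m * Nat.card Γ0 := by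
    apply Nat.eq_of_mul_eq_mul_right h5
    rw [← h2, h1, h3, hcard, h2, ← h4]
    ring
  refine SylCycIn.mono (B := E) (fun α hα => hA α hα) ?_
  intro ℓ hℓ P hPA hP
  have : Fact ℓ.Prime := ⟨hℓ⟩
  refine exists_gen_of_isCyclic_map ?_
  have h7 : IsPGroup ℓ (P.map (QuotientGroup.mk' (Cfsg.Inn Y))) := hP.map _
  obtain ⟨n, hn⟩ := IsPGroup.iff_card.1 h7
  have h8 : Nat.card (P.map (QuotientGroup.mk' (Cfsg.Inn Y))) ∣ Nat.card (E.map (QuotientGroup.mk' (Cfsg.Inn Y))) :=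
    Subgroup.card_dvd_of_le (Subgroup.map_mono hPA)
  have h9 : Nat.card (E.map (QuotientGroup.mk' (Cfsg.Inn Y))) = (Cfsg.Inn Y).relIndex E := by
    have h10 := Subgroup.relIndex_ker E (QuotientGroup.mk' (Cfsg.Inn Y))
    rw [QuotientGroup.ker_mk'] at h10
    rw [← h10]
  rw [hn, h9, h6] at h8
  have h10 : n ≤ 1 := by
    by_contra h11
    have h12 : ℓ * ℓ ∣ m * Nat.card Γ0 := by
      rw [← sq]
      exact (pow_dvd_pow ℓ (by omega)).trans h8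
    exact hℓ.one_lt.ne' (Nat.isUnit_iff.1 (hsq ℓ h12))
  have h11 : n = 0 ∨ n = 1 := by omega
  rcases h11 with h11 | h11
  · have h12 : Subsingleton (P.map (QuotientGroup.mk' (Cfsg.Inn Y))) := by
      rw [← Finite.card_le_one_iff_subsingleton, hn, h11, pow_zero]
    exact isCyclic_of_subsingleton
  · exact isCyclic_of_prime_card (p := ℓ) (by rw [hn, h11, pow_one])

/-- **The conclusion of S4832** from a character whose stabiliser in the frame group has small field part. -/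
theorem hasExt_of_hom [Finite Y] [Finite Γ] (hZ : Subgroup.center Y = ⊥) {χ : Y → ℂ} (hχ : IsIrrCharacter Y χ)
    {p : ℕ} (hp : p ∣ charDegree χ) {Rel : MulAut Y → Γ → Prop}
    (hex : ∀ α : MulAut Y, ∃ g τ, Rel (MulAut.conj g * α) τ) (hinner : ∀ g τ, Rel (MulAut.conj g) τ → τ = 1)
    (hmul : ∀ α β σ τ, Rel α σ → Rel β τ → Rel (α * β) (σ * τ)) (hinv : ∀ α τ, Rel α τ → Rel α⁻¹ τ⁻¹)
    (hsurj : ∀ τ, ∃ β, Rel β τ) {Γ0 : Subgroup Γ} (hχβ : ∀ β τ, Rel β τ → χ ∘ β = χ → τ ∈ Γ0) {m : ℕ}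
    (hcard : Nat.card (Cfsg.Out Y) = m * Nat.card Γ) (hsq : Squarefree (m * Nat.card Γ0)) : HasExt p Y := by
  obtain ⟨f, hf1, hf2⟩ := exists_fieldHom hex hinner hmul hinv
  have hf : Function.Surjective f := fun τ => by
    obtain ⟨β, hβ⟩ := hsurj τ
    exact ⟨β, hf2 β τ hβ⟩
  refine ⟨χ, hχ, hp, extTo_of_sylCyc hZ hχ
    (range_le_stab (Cfsg.Agent.Characters.Core.isIrr_isClassFunction hχ)) le_rfl
    (sylCycIn_of_hom (Γ0 := Γ0) hf hf1 ?_ hcard hsq)⟩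
  intro α hα
  obtain ⟨g, τ, h1⟩ := hex α
  have h2 : f α = τ := by
    rw [← hf2 _ _ h1, map_mul, hf1, one_mul]
  rw [h2]
  refine hχβ _ _ h1 ?_
  funext y
  rw [Function.comp_apply, MulAut.mul_apply, MulAut.conj_apply]
  have h3 := Cfsg.Agent.Characters.Core.isIrr_isClassFunction hχ (α y) g
  exact h3.trans (hα y)

end abs

/-! ### root group data -/

section rgd

open CoxeterSystem Cfsg.Agent.ChevalleyStructure.CoxeterGeom Cfsg.Agent.Tits.Roots Cfsg.Agent.Tits.Core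
  Cfsg.Agent.Tits.Exchange Cfsg.Agent.Nodes.Reps Cfsg.Agent.Nodes.BNOf Cfsg.Agent.Nodes.StabComb
  Cfsg.Agent.Nodes.Bruhat Cfsg.Agent.Nodes.OppDec Cfsg.Agent.Nodes.LeviDec Cfsg.Agent.Nodes.NormalForm
  Cfsg.Agent.KFacts.RgdOpp Cfsg.Agent.KFacts.RgdAut Cfsg.Agent.KFacts.RgdDiag Cfsg.Agent.KFacts.RgdRigid
  Cfsg.Agent.KFacts.RgdField Cfsg.Agent.KFacts.RgdTau Cfsg.Agent.H69.OutCount Cfsg.Agent.H53.HC
open Cfsg.Agent.ChevalleyStructure.SL2Hom (up lo)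

variable {I W : Type*} {Y : Type u} [Fintype I] [DecidableEq I] [Group W] [Group Y] {M : CoxeterMatrix I}
  {cs : CoxeterSystem M W} {A : I → I → ℤ} {h : IsCartan M A} {p : ℕ} {T : Subgroup Y} {n : I → Y}
  {X : (I → ℤ) → Subgroup Y}

theorem isRoot_comp {σ : Equiv.Perm I} (hσ : ∀ i j, M (σ i) (σ j) = M i j) (hA : ∀ i j, A (σ i) (σ j) = A i j)
    {r : I → ℤ} (hr : IsRoot cs h r) : IsRoot cs h (r ∘ σ.symm) := by
  obtain ⟨w, i, rfl⟩ := hr
  rw [← rep_hat hσ hA, sr_comp]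
  exact ⟨_, _, rfl⟩

variable (R : RGD cs h p T n X)

include R

theorem diag_sup [Finite W] {β : MulAut Y} {σ : Equiv.Perm I} (D : Diag T X β σ) (hA : ∀ i j, A (σ i) (σ j) = A i j)
    {S S' : Set (I → ℤ)} (hS : ∀ r ∈ S, IsRoot cs h r) (hSS : ∀ r ∈ S, r ∘ σ.symm ∈ S') {x : Y}
    (hx : x ∈ RGD.Sup X S) : β x ∈ RGD.Sup X S' := by
  have h1 : RGD.Sup X S ≤ (RGD.Sup X S').comap β.toMonoidHom :=
    RGD.Sup_le fun r hr y hy => RGD.le_Sup (hSS r hr) ((D.root_comp R hA (hS r hr) y).2 hy)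
  exact h1 hx

theorem cartan_inv {σ : Equiv.Perm I} (hA : ∀ i j, A (σ i) (σ j) = A i j) (i j : I) : A (σ⁻¹ i) (σ⁻¹ j) = A i j := by
  rw [← hA (σ⁻¹ i) (σ⁻¹ j)]
  congr 1
  · exact σ.apply_symm_apply i
  · exact σ.apply_symm_apply j

theorem diag_sup_iff [Finite W] {β : MulAut Y} {σ : Equiv.Perm I} (D : Diag T X β σ)
    (hA : ∀ i j, A (σ i) (σ j) = A i j) {S : Set (I → ℤ)} (hS : ∀ r ∈ S, IsRoot cs h r)
    (hSS : ∀ r ∈ S, r ∘ σ.symm ∈ S) (hSS' : ∀ r ∈ S, r ∘ σ ∈ S) (x : Y) : β x ∈ RGD.Sup X S ↔ x ∈ RGD.Sup X S := by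
  refine ⟨fun hx => ?_, diag_sup R D hA hS hSS⟩
  have h1 := diag_sup R D.inv (cartan_inv R hA) hS (S' := S) (fun r hr => hSS' r hr) hx
  rwa [MulAut.inv_apply_self] at h1

/-- **The frame automorphisms preserve `T`, `M_J`, `V_J`.** -/
theorem Compat.of_diag [Finite W] {J : Set I} {β : MulAut Y} {σ : Equiv.Perm I} (D : Diag T X β σ)
    (hA : ∀ i j, A (σ i) (σ j) = A i j) (hJ : ∀ i, σ i ∈ J ↔ i ∈ J) : Compat cs h T X J β := by
  have hσ := D.matrix R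
  have hσ' : ∀ i j, M (σ⁻¹ i) (σ⁻¹ j) = M i j := fun i j => D.inv.matrix R i j
  have hJ' : ∀ i, σ.symm i ∈ J ↔ i ∈ J := fun i => by rw [← hJ (σ.symm i), Equiv.apply_symm_apply]
  refine ⟨D.tor, diag_sup_iff R D hA (fun r hr => hr.1) ?_ ?_, diag_sup_iff R D hA (fun r hr => hr.1) ?_ ?_⟩
  · exact fun r hr => ⟨isRoot_comp hσ hA hr.1, fun k hk => hr.2 _ (fun hk' => hk ((hJ' k).1 hk'))⟩
  · exact fun r hr => ⟨isRoot_comp (σ := σ⁻¹) hσ' (cartan_inv R hA) hr.1, fun k hk => hr.2 _ (fun hk' => hk ((hJ k).1 hk'))⟩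
  · rintro r ⟨h1, h2, k, hk, h3⟩
    refine ⟨isRoot_comp hσ hA h1, fun i => h2 _, σ k, fun hk' => hk ((hJ k).1 hk'), ?_⟩
    rw [Function.comp_apply, Equiv.symm_apply_apply]
    exact h3
  · rintro r ⟨h1, h2, k, hk, h3⟩
    refine ⟨isRoot_comp (σ := σ⁻¹) hσ' (cartan_inv R hA) h1, fun i => h2 _, σ.symm k, fun hk' => hk ((hJ' k).1 hk'), ?_⟩
    rw [Function.comp_apply, Equiv.apply_symm_apply]
    exact h3

/-- **An inner frame automorphism is a conjugation by an element of `T`.** -/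
theorem mem_T_of_diag' [Finite W] (hG1 : RGD.Sup X {x | IsRoot cs h x} = ⊤) {g : Y} {σ : Equiv.Perm I}
    (D : Diag T X (MulAut.conj g) σ) (hA : ∀ i j, A (σ i) (σ j) = A i j) : g ∈ T := by
  have hG := GG_eq_top (T := T) hG1
  have hσ := D.matrix R
  have hσ' : ∀ i j, M (σ⁻¹ i) (σ⁻¹ j) = M i j := fun i j => D.inv.matrix R i j
  have h1 := diag_sup_iff R D hA (S := RGD.Pos cs h) (fun r hr => hr.1)
    (fun r hr => ⟨isRoot_comp hσ hA hr.1, fun i => hr.2 _⟩)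
    (fun r hr => ⟨isRoot_comp (σ := σ⁻¹) hσ' (cartan_inv R hA) hr.1, fun i => hr.2 _⟩)
  have h2 := diag_sup_iff R D hA (S := {r | IsRoot cs h r ∧ r ≤ 0}) (fun r hr => hr.1)
    (fun r hr => ⟨isRoot_comp hσ hA hr.1, fun i => hr.2 _⟩)
    (fun r hr => ⟨isRoot_comp (σ := σ⁻¹) hσ' (cartan_inv R hA) hr.1, fun i => hr.2 _⟩)
  have h3 : g ∈ RGD.B cs h T X := by
    rw [← normalizer_U' R hG, Subgroup.mem_normalizer_iff]
    intro y
    rw [← MulAut.conj_apply]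
    exact (h1 y).symm
  have h4 : g ∈ BN cs h T X := by
    rw [← normalizer_UN R hG, Subgroup.mem_normalizer_iff]
    intro y
    rw [← MulAut.conj_apply]
    exact (h2 y).symm
  rw [← B_inf_BN R]
  exact ⟨h3, h4⟩

variable {F : Type} [Field F] {x : (I → ℤ) → F → Y} {χ : (I → ℤ) → Y → F} {hh : I → F → Y}

/-- the field automorphism of an inner automorphism -/
theorem tau_inner [Finite W] [Nonempty I] (hG1 : RGD.Sup X {x | IsRoot cs h x} = ⊤) (C : Coords cs h T n X x χ)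
    {g : Y} {σ : Equiv.Perm I} {τ : F ≃+* F} (S : Tau T X χ A (MulAut.conj g) σ τ) : τ = 1 := by
  have hg := mem_T_of_diag' R hG1 S.diag S.cartan
  have S' : Tau T X χ A (MulAut.conj g) 1 1 := by
    refine ⟨diag_conj R hg, fun _ _ => rfl, fun i t ht => ?_⟩
    exact (C.coord _ (isRoot_sr cs h i)).chi_conj hg ht
  exact (Tau.unique R C S S').2

/-- **Automorphisms fixing a rigid character.** -/
theorem tau_of_rigid [Finite W] [Finite Y] (C : Coords cs h T n X x χ) {J : Set I} {i₀ : I} (hi : i₀ ∈ J)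
    (hiso : ∀ c ∈ J, c ≠ i₀ → M i₀ c = 2) (hun : ∀ a ∈ J, (∀ c ∈ J, c ≠ a → M a c = 2) → a = i₀)
    {φ : Matrix.SpecialLinearGroup (Fin 2) F →* Y} (hup : ∀ a, φ (up a) = x (sr i₀) a)
    (hlo : ∀ y, y ∈ X (-sr i₀) ↔ ∃ b, φ (lo b) = y) {θ : ↥(H53.HC.MJ cs h X {i₀}) → ℂ}
    (hgen : Generic cs h X φ {i₀} θ) {Ψ : Y → ℂ} (hr : Rigid R J θ Ψ) {β : MulAut Y} {σ : Equiv.Perm I}
    {τ : F ≃+* F} (S : Tau T X χ A β σ τ) (hσJ : ∀ i, σ i ∈ J ↔ i ∈ J) (hσi : σ i₀ = i₀) (hfix : Ψ ∘ β = Ψ) :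
    τ = 1 := by
  obtain ⟨w, g, hg, hw, -, h2⟩ := hr β (Compat.of_diag R S.diag S.cartan hσJ) hfix
  have hwi : rep cs h w (sr i₀) = sr i₀ := fix_node hi hiso hun hw
  have hwi' : rep cs h w⁻¹ (sr i₀) = sr i₀ := by
    conv_lhs => rw [← hwi]
    exact rep_inv_apply cs h w (sr i₀)
  have hroot := isRoot_sr cs h i₀
  have hcg : ∀ (r : I → ℤ), IsRoot cs h r → rep cs h w⁻¹ r = r → ∀ y, g⁻¹ * y * g ∈ X r ↔ y ∈ X r := by
    intro r hr' e y
    have h1 := R.conj_rp hg.inv hr'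
    rw [e] at h1
    constructor
    · intro hy
      rw [← h1, mem_cj, inv_inv] at hy
      have e1 : g * (g⁻¹ * y * g) * g⁻¹ = y := by group
      rwa [e1] at hy
    · intro hy
      rw [← h1, mem_cj, inv_inv]
      have e1 : g * (g⁻¹ * y * g) * g⁻¹ = y := by group
      rwa [e1]
  let γ : MulAut Y := β * MulAut.conj g⁻¹
  have hγ : ∀ y, γ y = β (g⁻¹ * y * g) := fun y => by
    change β (MulAut.conj g⁻¹ y) = _
    rw [MulAut.conj_apply, inv_inv]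
  have hgn := hg.mem_normalizer
  have hT : Fix γ T := by
    intro y
    rw [hγ]
    refine (S.diag.tor _).trans ?_
    have h3 := (Subgroup.mem_normalizer_iff.1 (inv_mem hgn) y)
    rw [inv_inv] at h3
    exact h3.symm
  have hP : ∀ y, γ y ∈ X (sr i₀) ↔ y ∈ X (sr i₀) := by
    intro y
    have h3 := S.diag.pos i₀ (g⁻¹ * y * g)
    rw [hσi] at h3
    rw [hγ, h3, hcg _ hroot hwi']
  have hN : ∀ y, γ y ∈ X (-sr i₀) ↔ y ∈ X (-sr i₀) := by
    intro y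
    have h3 := S.diag.neg i₀ (g⁻¹ * y * g)
    rw [hσi] at h3
    rw [hγ, h3, hcg _ hroot.neg (by rw [map_neg, hwi'])]
  obtain ⟨τ', c, hc, e1, e2⟩ := Coord.exists_semi (C.coord _ hroot) (C.coord _ hroot) hT hP
  have hτ : τ' = τ := by
    refine (C.coord _ hroot).ext fun t ht => ?_
    rw [← e2 t ht, hγ]
    have h3 : g⁻¹ * t * g ∈ T := by
      have h4 := (Subgroup.mem_normalizer_iff.1 (inv_mem hgn) t).1 ht
      rwa [inv_inv] at h4
    have h4 := S.char i₀ _ h3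
    rw [hσi] at h4
    rw [h4]
    have h5 := C.chi_rp R.nsys hg.inv hroot ht
    rw [hwi', inv_inv] at h5
    rw [h5]
  rw [← hτ]
  refine hgen γ τ' c hc (fun a => ?_) (fun b => ?_) fun m hm hm' => ?_
  · rw [hup, e1, hup]
  · obtain ⟨b', hb'⟩ := (hlo _).1 ((hN _).2 ((hlo (φ (lo b))).2 ⟨b, rfl⟩))
    exact ⟨b', hb'.symm⟩
  · have h3 : β (g⁻¹ * m * g) ∈ H53.HC.MJ cs h X {i₀} := by rw [← hγ]; exact hm'
    have h4 := h2 m hm h3
    rw [← h4]
    congr 1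
    exact Subtype.ext (hγ m)

/-- **The conclusion of S4832 for groups with coordinates.** -/
theorem hasExt_of_coords [Finite W] [Finite Y] [Finite F] [Fact p.Prime] [Nonempty I]
    (hG1 : RGD.Sup X {x | IsRoot cs h x} = ⊤) (hZ : Subgroup.center Y = ⊥) (C : Coords cs h T n X x χ)
    (H : Coroots A T X χ hh)
    (hconn : ∀ J : Set I, J.Nonempty → J ≠ Set.univ → ∃ a ∈ J, ∃ b, b ∉ J ∧ M a b ≠ 2)
    {J : Set I} {i₀ : I} (hi : i₀ ∈ J)
    (hiso : ∀ c ∈ J, c ≠ i₀ → M i₀ c = 2) (hun : ∀ a ∈ J, (∀ c ∈ J, c ≠ a → M a c = 2) → a = i₀)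
    (hσ : ∀ σ : Equiv.Perm I, (∀ i j, M (σ i) (σ j) = M i j) →
      (∀ i j, A (σ i) (σ j) = A i j) ∧ (∀ i, σ i ∈ J ↔ i ∈ J) ∧ σ i₀ = i₀)
    {φ : Matrix.SpecialLinearGroup (Fin 2) F →* Y} (hup : ∀ a, φ (up a) = x (sr i₀) a)
    (hlo : ∀ y, y ∈ X (-sr i₀) ↔ ∃ b, φ (lo b) = y) {θ : ↥(H53.HC.MJ cs h X {i₀}) → ℂ}
    (hgen : Generic cs h X φ {i₀} θ) {Ψ : Y → ℂ} (hΨ : IsIrrCharacter Y Ψ) (hr : Rigid R J θ Ψ)
    {ℓ : ℕ} (hℓ : ℓ ∣ charDegree Ψ) (hsurj : ∀ τ : F ≃+* F, ∃ β σ, Tau T X χ A β σ τ) {m : ℕ}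
    (hcard : Nat.card (Cfsg.Out Y) = m * Nat.card (F ≃+* F)) (hm : Squarefree m) : HasExt ℓ Y := by
  have hfF : Finite (F ≃+* F) := Finite.of_injective (fun e : F ≃+* F => (e : F → F)) DFunLike.coe_injective
  refine hasExt_of_hom hZ hΨ hℓ (Rel := fun β τ => ∃ σ, Tau T X χ A β σ τ) (Γ0 := ⊥) ?_ ?_ ?_ ?_ ?_ ?_ hcard ?_
  · intro α
    obtain ⟨g, σ, D⟩ := exists_diag_conj R hG1 α
    obtain ⟨τ, S⟩ := exists_tau R C H hconn D (hσ σ (D.matrix R)).1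
    exact ⟨g, τ, σ, S⟩
  · rintro g τ ⟨σ, S⟩
    exact tau_inner R hG1 C S
  · rintro α β σ τ ⟨_, S⟩ ⟨_, S'⟩
    exact ⟨_, S.mul S'⟩
  · rintro α τ ⟨_, S⟩
    exact ⟨_, S.inv⟩
  · exact hsurj
  · rintro β τ ⟨σ, S⟩ hfix
    obtain ⟨-, h1, h2⟩ := hσ σ (S.diag.matrix R)
    rw [Subgroup.mem_bot]
    exact tau_of_rigid R C hi hiso hun hup hlo hgen hr S h1 h2 hfix
  · rw [Subgroup.card_bot, mul_one]
    exact hm

end rgd

end Cfsg.Agent.H804.Ext
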