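import Cfsg.Agent.H804.Ext.CoOf
import Cfsg.Agent.H53.HC.ExcIM
import Cfsg.Agent.CpAut.RgdTwE6
import Cfsg.Agent.S1070
import Cfsg.Agent.S2130
import Cfsg.Agent.H933.SubTwist

/-!
# S4832: the row `²E₆(q)` (helper804)

`hasExt_2E6` : a character of degree divisible by `p` which extends to its stabiliser.
-/

set_option autoImplicit false
set_option linter.unusedSectionVars false
set_option maxHeartbeats 400000

open scoped ComplexConjugate
open Cfsg

namespace Cfsg.Agent.H804.Ext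

/-! ### involutions in a cyclic group -/

section cyc

variable {Γ : Type*} [Group Γ]

/-- the elements of order at most two of an abelian group -/
def two (h : ∀ a b : Γ, a * b = b * a) : Subgroup Γ where
  carrier := {a | a ^ 2 = 1}
  one_mem' := one_pow 2
  mul_mem' {a b} ha hb := by
    have h1 : (a * b) ^ 2 = a ^ 2 * b ^ 2 := Commute.mul_pow (show Commute a b from h a b) 2
    have ha' : a ^ 2 = 1 := ha
    have hb' : b ^ 2 = 1 := hb
    change (a * b) ^ 2 = 1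
    rw [h1, ha', hb', mul_one]
  inv_mem' {a} ha := by
    have ha' : a ^ 2 = 1 := ha
    change a⁻¹ ^ 2 = 1
    rw [inv_pow, ha', inv_one]

theorem mem_two {h : ∀ a b : Γ, a * b = b * a} {a : Γ} : a ∈ two h ↔ a ^ 2 = 1 := Iff.rfl

theorem card_two [Finite Γ] [IsCyclic Γ] (h : ∀ a b : Γ, a * b = b * a) : Nat.card (two h) ∣ 2 := by
  classical
  have : Fintype Γ := Fintype.ofFinite Γ
  have h1 : Nat.card (two h) ≤ 2 := by
    have h2 := IsCyclic.card_pow_eq_one_le (α := Γ) (n := 2) (by norm_num)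
    have h3 : Nat.card (two h) = (Finset.univ.filter fun a : Γ => a ^ 2 = 1).card := by
      have h4 : Nat.card (two h) = Nat.card {a : Γ // a ^ 2 = 1} := rfl
      rw [h4, Nat.card_eq_fintype_card, Fintype.card_subtype]
    rw [h3]
    exact h2
  have h2 : 0 < Nat.card (two h) := Nat.card_pos
  have h3 : Nat.card (two h) = 1 ∨ Nat.card (two h) = 2 := by omega
  rcases h3 with h3 | h3
  · rw [h3]; decide
  · rw [h3]

end cyc

open CoxeterSystem Cfsg.Agent.ChevalleyStructure.CoxeterGeom Cfsg.Agent.Tits.Roots Cfsg.Agent.Tits.Core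
  Cfsg.Agent.Tits.Exchange Cfsg.Agent.Nodes.Reps Cfsg.Agent.Nodes.BNOf Cfsg.Agent.Nodes.StabComb
  Cfsg.Agent.Nodes.Bruhat Cfsg.Agent.Nodes.OppDec Cfsg.Agent.Nodes.RGDTwGen Cfsg.Agent.Nodes.RGDChev
  Cfsg.Agent.Nodes.RGDFold Cfsg.Agent.Nodes.RGDFoldSL
open Cfsg.Agent.KFacts.RgdOpp Cfsg.Agent.KFacts.RgdAut Cfsg.Agent.KFacts.RgdDiag Cfsg.Agent.KFacts.RgdRigid
  Cfsg.Agent.KFacts.RgdField Cfsg.Agent.KFacts.RgdTau Cfsg.Agent.KFacts.RgdNodes
open Cfsg.Lie Cfsg.Agent.ChevalleyStructure Cfsg.Agent.ChevalleyStructure.Elts Cfsg.Agent.ChevStructure.FieldMap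
open Cfsg.Agent.ChevalleyStructure.SL2Hom (up lo)
open Cfsg.Agent.KFacts.TwESix.NodeCoord Cfsg.Agent.KFacts.TwESix.Out Cfsg.Agent.KFacts.TwESix.OutTwo
open Cfsg.Agent.Nodes.RGDTwE6 Cfsg.Agent.Nodes.RGDTwNode.E6
open Cfsg.Agent.ChevalleyStructure.TwE6Basic (hE6 single_mem pair_mem twisted_le_iff exists_frob)
open Cfsg.Agent.H576.Ext Cfsg.Agent.H53.HC
open Matrix

section gen

variable {K : Type} [Field K] [Fintype K] {q : ℕ} {φ : K →+* K} (hφ : ∀ x, φ x = x ^ q)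
  (hqq : ∀ t : K, (t ^ q) ^ q = t)
variable {W : Type*} [Group W] (cs : CoxeterSystem CoxeterMatrix.F₄ W)

theorem ftau_inv {β : MulAut ↥(twistedE6 K q)} {τ : K ≃+* K} (S : FTau hφ hqq β τ) : FTau hφ hqq β⁻¹ τ⁻¹ where
  diag := by
    have := S.diag.inv
    rwa [inv_one] at this
  char i t ht := by
    have h2 := S.char i (β⁻¹ t) ((S.diag.tor.inv t).2 ht)
    rw [MulAut.apply_inv_self] at h2
    rw [h2]
    exact (τ.symm_apply_apply _).symm

include cs in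
theorem ftau_st (p : ℕ) [Fact p.Prime] [CharP K p] (τ : K ≃+* K) :
    FTau hφ hqq (Cfsg.Agent.CpAut.RgdTwE6.st q τ) τ := by
  have S := Cfsg.Agent.CpAut.RgdTwE6.ntau_st hφ hqq τ cs p
  exact ⟨S.diag, fun i t ht => congrArg Subtype.val (S.char i t ht)⟩

include cs in
/-- the negative root groups of the nodes -/
theorem mem_neg [Finite W] (p : ℕ) [Fact p.Prime] [CharP K p] (i : Fin 4) (y : ↥(twistedE6 K q)) :
    y ∈ X φ q (-sr i) ↔ ∃ b, PhiE hφ hqq i (lo b) = y := by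
  have R := Cfsg.Agent.Nodes.RGDTwE6.rgd cs hφ hqq p
  have hwS : ∀ a : KF φ i, (wS 1 : SpecialLinearGroup (Fin 2) (KF φ i)) * up a * (wS 1)⁻¹ = lo (-a) := by
    intro a
    rw [mul_inv_eq_iff_eq_mul]
    apply Subtype.ext
    change (!![1, 1; 0, 1] : Matrix (Fin 2) (Fin 2) (KF φ i)) * (!![1, 0; -1⁻¹, 1] * !![1, 1; 0, 1]) * !![1, a; 0, 1] =
      !![1, 0; -a, 1] * (!![1, 1; 0, 1] * (!![1, 0; -1⁻¹, 1] * !![1, 1; 0, 1]))
    ext r s
    fin_cases r <;> fin_cases s <;> simp [Matrix.mul_apply, Fin.sum_univ_two]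
  have hc : ∀ z, z ∈ X φ q (sr i) ↔ nn hφ i * z * (nn hφ i)⁻¹ ∈ X φ q (-sr i) := by
    intro z
    have h1 := R.conj_rp (rp_simple cs R.nsys i) (isRoot_sr cs isCartan i)
    rw [rep_simple_sr] at h1
    rw [← h1, mem_cj]
    have e : (nn hφ i)⁻¹ * (nn hφ i * z * (nn hφ i)⁻¹) * nn hφ i = z := by group
    rw [e]
  have hy : nn hφ i * ((nn hφ i)⁻¹ * y * nn hφ i) * (nn hφ i)⁻¹ = y := by group
  constructor
  · intro h
    have h1 := (hc ((nn hφ i)⁻¹ * y * nn hφ i)).2 (by rw [hy]; exact h)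
    obtain ⟨a, ha⟩ := (mem_X hφ hqq i _).1 h1
    refine ⟨-a, ?_⟩
    rw [← hwS, map_mul, map_mul, map_inv, PhiE_wS, ← ha, hy]
  · rintro ⟨b, rfl⟩
    have h1 : PhiE hφ hqq i (lo b) = nn hφ i * PhiE hφ hqq i (up (-b)) * (nn hφ i)⁻¹ := by
      rw [← PhiE_wS hφ hqq i, ← map_inv, ← map_mul, ← map_mul, hwS, neg_neg]
    rw [h1]
    exact (hc _).1 ((mem_X hφ hqq i _).2 ⟨_, rfl⟩)

include cs in
theorem exists_gen_tw [Finite W] (p : ℕ) [Fact p.Prime] [CharP K p] (i : Fin 4) :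
    ∃ θ : ↥(H53.HC.MJ cs isCartan (X φ q) {i}) → ℂ, Cusp cs isCartan (X φ q) {i} θ ∧
      Generic cs isCartan (X φ q) (PhiE hφ hqq i) {i} θ := by
  have hfin : Finite ↥(twistedE6 K q) := by
    have : Finite (GL chevE6.Idx K) := by
      have : Finite (Matrix chevE6.Idx chevE6.Idx K) := inferInstance
      infer_instance
    infer_instance
  have R := Cfsg.Agent.Nodes.RGDTwE6.rgd cs hφ hqq p
  have hco := co_of R (i := i) (φ := PhiE hφ hqq i) (fun y => by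
      rw [mem_X hφ hqq i y]
      exact ⟨fun ⟨a, e⟩ => ⟨a, e.symm⟩, fun ⟨a, e⟩ => ⟨a, e.symm⟩⟩)
    (fun a b hab => (coordE hφ hqq i).inj hab) (mem_neg hφ hqq cs p i)
  exact exists_node (cs := cs) (h := isCartan) hco

/-- **Automorphisms fixing a rigid character.** -/
theorem sq_of_rigid (p : ℕ) [Fact p.Prime] [CharP K p] [Finite W] {J : Set (Fin 4)} {j i₀ : Fin 4}
    (hJ : ∀ i, i ∈ J ↔ i ≠ j) (hi : i₀ ∈ J)
    (hiso : ∀ c ∈ J, c ≠ i₀ → CoxeterMatrix.F₄ i₀ c = 2)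
    (hun : ∀ a ∈ J, (∀ c ∈ J, c ≠ a → CoxeterMatrix.F₄ a c = 2) → a = i₀) (hF : Fx φ ((rest i₀).length + 1) = ⊤)
    {θ : ↥(H53.HC.MJ cs isCartan (X φ q) {i₀}) → ℂ} (hgen : Generic cs isCartan (X φ q) (PhiE hφ hqq i₀) {i₀} θ)
    {Ψ : ↥(twistedE6 K q) → ℂ} (R : RGD cs isCartan p (T K q) (nn hφ) (X φ q)) (hr : Rigid R J θ Ψ)
    {β : MulAut ↥(twistedE6 K q)} {τ : K ≃+* K} (S : FTau hφ hqq β τ) (hfix : Ψ ∘ β = Ψ) : τ ^ 2 = 1 := by
  obtain ⟨w, g, hg, hw, hwJ, h2⟩ := hr β (Compat.of_diag R S.diag (fun _ _ => rfl) (fun _ => Iff.rfl)) hfix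
  have hwi : rep cs isCartan w (sr i₀) = sr i₀ := fix_node hi hiso hun hw
  have hwi' : rep cs isCartan w⁻¹ (sr i₀) = sr i₀ := by
    conv_lhs => rw [← hwi]
    exact rep_inv_apply cs isCartan w (sr i₀)
  have hroot := isRoot_sr cs isCartan i₀
  have hcg : ∀ (r : Fin 4 → ℤ), IsRoot cs isCartan r → rep cs isCartan w⁻¹ r = r →
      ∀ y, g⁻¹ * y * g ∈ X φ q r ↔ y ∈ X φ q r := by
    intro r hr' e y
    have h1 := R.conj_rp hg.inv hr'
    rw [e] at h1
    constructor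
    · intro hy
      rw [← h1, mem_cj, inv_inv] at hy
      have e1 : g * (g⁻¹ * y * g) * g⁻¹ = y := by group
      rwa [e1] at hy
    · intro hy
      rw [← h1, mem_cj, inv_inv]
      have e1 : g * (g⁻¹ * y * g) * g⁻¹ = y := by group
      rwa [e1]
  let γ : MulAut ↥(twistedE6 K q) := β * MulAut.conj g⁻¹
  have hγ : ∀ y, γ y = β (g⁻¹ * y * g) := fun y => by
    change β (MulAut.conj g⁻¹ y) = _
    rw [MulAut.conj_apply, inv_inv]
  have hgn := hg.mem_normalizer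
  have hgT : ∀ t, g⁻¹ * t * g ∈ T K q ↔ t ∈ T K q := by
    intro t
    have h3 := (Subgroup.mem_normalizer_iff.1 (inv_mem hgn) t)
    rw [inv_inv] at h3
    exact h3.symm
  have hT : Fix γ (T K q) := by
    intro y
    rw [hγ]
    exact (S.diag.tor _).trans (hgT y)
  have hP : ∀ y, γ y ∈ X φ q (sr i₀) ↔ y ∈ X φ q (sr i₀) := by
    intro y
    have h3 := S.diag.pos i₀ (g⁻¹ * y * g)
    rw [Equiv.Perm.one_apply] at h3
    rw [hγ, h3, hcg _ hroot hwi']
  have hN : ∀ y, γ y ∈ X φ q (-sr i₀) ↔ y ∈ X φ q (-sr i₀) := by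
    intro y
    have h3 := S.diag.neg i₀ (g⁻¹ * y * g)
    rw [Equiv.Perm.one_apply] at h3
    rw [hγ, h3, hcg _ hroot.neg (by rw [map_neg, hwi'])]
  obtain ⟨τ', c, hc, e1, e2⟩ := Coord.exists_semi (coordE hφ hqq i₀) (coordE hφ hqq i₀) hT hP
  have hτ : τ' = 1 := by
    refine hgen γ τ' c hc e1 (fun b => ?_) fun m hm hm' => ?_
    · obtain ⟨b', hb'⟩ := (mem_neg hφ hqq cs p i₀ _).1 ((hN _).2 ((mem_neg hφ hqq cs p i₀ _).2 ⟨b, rfl⟩))
      exact ⟨b', hb'.symm⟩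
    · have h3 : β (g⁻¹ * m * g) ∈ H53.HC.MJ cs isCartan (X φ q) {i₀} := by rw [← hγ]; exact hm'
      have h4 := h2 m hm h3
      rw [← h4]
      congr 1
  have hgg : g * g ∈ T K q := by
    rcases hwJ with rfl | hwJ
    · exact mul_mem hg.mem_of_one hg.mem_of_one
    · have h3 := fix_of_two R hJ hw hwJ hw.inv (fun hh => hwJ (by simpa using inv_mem hh)) hg hg.inv
      rwa [inv_inv] at h3
  -- the scalars
  have key : ∀ t ∈ T K q, τ (chE hφ hqq i₀ (g⁻¹ * t * g) : K) = (chE hφ hqq i₀ t : K) := by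
    intro t ht
    have h3 := e2 t ht
    rw [hτ, hγ] at h3
    rw [← S.char i₀ _ ((hgT t).2 ht), h3]
    rfl
  have key2 : ∀ t ∈ T K q, τ (τ (chE hφ hqq i₀ t : K)) = (chE hφ hqq i₀ t : K) := by
    intro t ht
    have ht2 : g * g * t * (g * g)⁻¹ ∈ T K q := mul_mem (mul_mem hgg ht) (inv_mem hgg)
    have ht1 : g⁻¹ * (g * g * t * (g * g)⁻¹) * g ∈ T K q := (hgT _).2 ht2
    have h3 := key _ ht2
    have h4 := key _ ht1
    have e3 : g⁻¹ * (g⁻¹ * (g * g * t * (g * g)⁻¹) * g) * g = t := by group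
    rw [e3] at h4
    rw [h4, h3, (coordE hφ hqq i₀).chi_conj hgg ht]
  -- all elements of `K`
  have hS : ∀ a : K, τ (τ a) = a := by
    let E : AddSubgroup K := AddMonoidHom.eqLocus ((τ : K →+ K).comp (τ : K →+ K)) (AddMonoidHom.id K)
    have hE : E = ⊤ := by
      apply Cfsg.Agent.KFacts.RgdChevCoord.closure_sq
      intro d hd
      have h1 : d ∈ KF φ i₀ := by
        show d ∈ Fx φ _
        rw [hF]
        exact Subfield.mem_top d
      have h2 : (⟨d, h1⟩ : KF φ i₀) ≠ 0 := fun h => hd (congrArg Subtype.val h)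
      have h3 := key2 _ (PhiE_hS hφ hqq i₀ ⟨d, h1⟩ h2)
      rw [chE_hS hφ hqq i₀ _ h2] at h3
      exact h3
    intro a
    have h3 : a ∈ E := by rw [hE]; exact AddSubgroup.mem_top a
    exact h3
  ext a
  rw [sq]
  exact hS a

end gen

section rows

variable {K : Type} [Field K] [Fintype K] {q r f : ℕ} {φ : K →+* K} (hr : r.Prime) (hf : f ≠ 0) (hq : q = r ^ f)
  [CharP K r] (hφ : ∀ x, φ x = x ^ q) (hqq : ∀ t : K, (t ^ q) ^ q = t) (hK : Fintype.card K = q ^ 2)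

theorem iso_F4 : ∀ c : Fin 4, c ≠ 2 → c ≠ 3 → ExcRows.m4 3 c = 2 := by decide +kernel

theorem uniq_F4 : ∀ a : Fin 4, a ≠ 2 → (∀ c, c ≠ 2 → c ≠ a → ExcRows.m4 a c = 2) → a = 3 := by decide +kernel

include hr hf hq hφ hqq hK in
/-- **`²E₆(q)`.** -/
theorem ext_TwE6 [IsSimpleGroup ↥(twistedE6 K q)] (hc : ∃ a b : ↥(twistedE6 K q), a * b ≠ b * a) {p : ℕ}
    (hp : p.Prime) (hpr : p ≠ r) (hd : p ∣ Nat.card ↥(twistedE6 K q)) : HasExt p ↥(twistedE6 K q) := by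
  have hfr : Fact r.Prime := ⟨hr⟩
  have hfin : Finite ↥(twistedE6 K q) := by
    have : Finite (GL chevE6.Idx K) := by
      have : Finite (Matrix chevE6.Idx chevE6.Idx K) := inferInstance
      infer_instance
    infer_instance
  have D := Cfsg.Agent.H35.ExcIdx.data_TwE6_2 hr hf hq hφ hqq hK
  have hW := D.fin
  have h2 : 2 ≤ q := by rw [hq]; exact Cfsg.Agent.H35.ExcIdx.two_le hr hf
  let cs := CoxeterMatrix.F₄.toCoxeterSystem
  have hG1 : RGD.Sup (X φ q) {x | IsRoot cs isCartan x} = ⊤ := G1_top cs hφ hqq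
  obtain ⟨θ, hθ, hgen⟩ := exists_gen_tw hφ hqq cs r 3
  obtain ⟨Ψ, hΨ, ⟨N, hN, hdiv⟩, hrig⟩ := big_of_one_aut hr h2 D (K' := {3}) ExcRows.compl4
    (fun i hi i' hi' => ExcRows.or4 i (by simpa using hi) i' (by simpa using hi'))
    (by decide +kernel) (by decide +kernel) (by decide +kernel) ExcRows.un4
    (ExcIM.in_A2 D (by decide +kernel) rfl) hθ (Lies.refl θ)
  have hdeg : p ∣ charDegree Ψ := by
    have h1 := Cfsg.Agent.Blocks.Basic.irr_one_eq_charDegree hΨ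
    rw [hN] at h1
    have h2 : N = charDegree Ψ := by exact_mod_cast h1
    rw [← h2]
    exact hdiv p hp hd hpr
  have hZ := KFacts.RgdLieCharP.center_eq_bot hc
  have hK' : Fintype.card K = r ^ (2 * f) := by rw [hK, hq, ← pow_mul, mul_comm]
  have hf2 : 1 ≤ 2 * f := by omega
  have hcard : Nat.card (Cfsg.Out ↥(twistedE6 K q)) = Nat.gcd 3 (r ^ f + 1) * Nat.card (K ≃+* K) := by
    have h1 := Cfsg.Agent.S2130.result r f hK' (Nat.one_le_iff_ne_zero.2 hf)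
    rw [Cfsg.Agent.Lib.FieldAutCard.card_ringAut hf2 hK', hq, h1]
    ring
  have hcyc : IsCyclic (K ≃+* K) := Cfsg.Agent.H933.SubTwist.isCyclic_ringAut hf2 hK'
  have hcomm : ∀ a b : K ≃+* K, a * b = b * a := by
    have := hcyc.isMulCommutative
    intro a b
    exact this.is_comm.comm a b
  have hfK : Finite (K ≃+* K) := Finite.of_injective (fun e : K ≃+* K => (e : K → K)) DFunLike.coe_injective
  refine hasExt_of_hom hZ hΨ hdeg (Rel := FTau hφ hqq) (Γ0 := two hcomm) ?_ ?_ ?_ ?_ ?_ ?_ hcard ?_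
  · intro α
    obtain ⟨g, σ, Dg⟩ := Cfsg.Agent.H69.OutCount.exists_diag_conj D.rgd hG1 α
    have h3 : σ = 1 := by
      apply perm_F4 σ (Dg.matrix D.rgd)
      intro h4
      have h5 := Diag.card_eq Dg 0
      rw [h4] at h5
      exact card_ne hφ hqq hK (by omega) h5
    subst h3
    obtain ⟨τ, S⟩ := exists_ftau hφ hqq cs r Dg
    exact ⟨g, τ, S⟩
  · intro g τ S
    have h3 := Cfsg.Agent.H69.OutCount.mem_T_of_diag D.rgd hG1 S.diag
    exact (FTau.unique hφ hqq (ftau_conj hφ hqq cs r h3) S).symm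
  · intro α β σ τ S S'
    exact FTau.mul hφ hqq S S'
  · intro α τ S
    exact ftau_inv hφ hqq S
  · intro τ
    exact ⟨_, ftau_st hφ hqq cs r τ⟩
  · intro β τ S hfix
    rw [mem_two]
    exact sq_of_rigid hφ hqq cs r (J := {i | i ≠ 2}) (j := 2) (i₀ := 3) (fun i => Iff.rfl) (by decide)
      (fun c h3 h4 => iso_F4 c h3 h4) (fun a h3 h4 => uniq_F4 a h3 h4) (F2_eq_top hφ hqq) hgen D.rgd hrig S hfix
  · have h3 : Nat.card (two hcomm) ∣ 2 := card_two hcomm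
    have h4 : Nat.gcd 3 (r ^ f + 1) ∣ 3 := Nat.gcd_dvd_left _ _
    have h5 : Squarefree (3 * 2) := (Nat.squarefree_mul (by norm_num)).2
      ⟨Nat.prime_three.squarefree, Nat.prime_two.squarefree⟩
    exact h5.squarefree_of_dvd (mul_dvd_mul h4 h3)

end rows

section main

universe u

/-- **S4832 for `²E₆(q)`.** -/
theorem hasExt_2E6 {S : Type u} [Group S] (h : Lie.Iso2E6 S) {p : ℕ} [Fact p.Prime] (hd : p ∣ Nat.card S) :
    HasExt p S := by
  obtain ⟨K, _, _, q, hq, hK, ⟨e⟩⟩ := h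
  refine HasExt.of_equiv e ?_
  obtain ⟨r, f, hr, hf, hqf⟩ := (isPrimePow_nat_iff q).1 hq
  have hch : CharP K r := by
    obtain ⟨r', g, hr', hg, hK', hch⟩ := ExcIM.exists_prime_pow K
    have h1 : r' = r := by
      have h2 : r' ∣ r ^ (f * 2) := by
        rw [pow_mul, hqf, ← hK, hK']
        exact dvd_pow_self _ hg
      exact (Nat.prime_dvd_prime_iff_eq hr' hr).1 (hr'.dvd_of_dvd_pow h2)
    rwa [h1] at hch
  obtain ⟨φ, hφ, hqq⟩ := exists_frob hq hK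
  obtain ⟨hs, hna⟩ := Cfsg.Agent.S1070.result hq hK
  have hfin : Finite ↥(twistedE6 K q) := by
    have : Finite (GL chevE6.Idx K) := by
      have : Finite (Matrix chevE6.Idx chevE6.Idx K) := inferInstance
      infer_instance
    infer_instance
  have hd' : p ∣ Nat.card ↥(twistedE6 K q) := by rwa [← Nat.card_congr e.toEquiv]
  by_cases hpr : p = r
  · subst hpr
    refine hasExt_char ?_ hd'
    have h1 : IsTwistedE6D4Char p ↥(twistedE6 K q) :=
      ⟨K, inferInstance, inferInstance, inferInstance, q, hq, Or.inl ⟨hK, ⟨MulEquiv.refl _⟩⟩⟩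
    unfold IsLieTypeChar
    tauto
  · refine ext_TwE6 hr hf.ne' hqf.symm hφ hqq hK ?_ Fact.out hpr hd'
    by_contra hcon
    push Not at hcon
    exact hna ⟨⟨hcon⟩⟩

end main

end Cfsg.Agent.H804.Ext
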